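import Groth.Agent.Sga3B.RepDescent5

/-!
# Zariski descent of representability
-/

set_option autoImplicit false

universe u

open CategoryTheory CategoryTheory.Limits AlgebraicGeometry Opposite

namespace Groth.Agent.RedSub.H672.ZarGlue

open Groth.Agent.Sga3B Groth.Agent.Sga3B.RepDescent

variable {S : Scheme.{u}} {F : (Over S)ᵒᵖ ⥤ Type u}

theorem homEquiv_id_comp {A : Over S} (r : F.RepresentableBy A) {R : Over S} (m : R ⟶ A) :
    F.map m.op (r.homEquiv (𝟙 A)) = r.homEquiv m := by
  rw [← r.homEquiv_comp, Category.comp_id]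

/-- The atlas with one chart defined by a representation. -/
noncomputable def atlasOfRep {A : Over S} (r : F.RepresentableBy A) : Atlas F where
  ι := PUnit
  W _ := A
  w _ := r.homEquiv (𝟙 A)
  injective _ R m₁ m₂ h := by
    dsimp only at h
    rw [homEquiv_id_comp, homEquiv_id_comp] at h
    exact r.homEquiv.injective h
  opens _ _ _ := ⊤
  exists_iff T y _ R g := ⟨fun _ _ _ => trivial, fun _ => ⟨r.homEquiv.symm (F.map g.op y), by
    rw [homEquiv_id_comp, Equiv.apply_symm_apply]⟩⟩
  cover _ _ _ := ⟨PUnit.unit, trivial⟩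

/-- **Zariski descent of representability.** -/
theorem exists_representableBy_of_zariski (hF : IsEtSheaf F)
    (h : ∀ s : S, ∃ O : S.Opens, s ∈ O ∧ ∃ A : Over (O : Scheme.{u}),
      Nonempty (((Over.map O.ι).op ⋙ F).RepresentableBy A)) :
    ∃ A : Over S, Nonempty (F.RepresentableBy A) := by
  choose O hO A hA using h
  exact exists_representableBy_of_atlas
    (Atlas.glue O (fun s => ⟨s, hO s⟩) (fun s => atlasOfRep (hA s).some)) hF

section restr

variable {V O : Scheme.{u}} (v : V ⟶ S) (q : O ⟶ V) (o : O ⟶ S) (hc : q ≫ v = o) {A' : Over V}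

/-- comparison iso -/
noncomputable def cmp3 (T : Over O) : (Over.map o).obj T ≅ (Over.map v).obj ((Over.map q).obj T) :=
  Over.isoMk (Iso.refl _) (by
    change 𝟙 _ ≫ (T.hom ≫ q) ≫ v = T.hom ≫ o
    rw [Category.id_comp, Category.assoc, hc])

/-- Base change of a representing object. -/
noncomputable def repRestrict' (r : ((Over.map v).op ⋙ F).RepresentableBy A') :
    ((Over.map o).op ⋙ F).RepresentableBy ((Over.pullback q).obj A') where
  homEquiv {T} := ((Over.mapPullbackAdj q).homEquiv T A').symm.trans
    (r.homEquiv.trans (F.mapIso (cmp3 v q o hc T).op).toEquiv)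
  homEquiv_comp {T T'} f g := by
    change F.map _ (r.homEquiv (((Over.mapPullbackAdj q).homEquiv T A').symm (f ≫ g))) =
      F.map _ (F.map _ (r.homEquiv (((Over.mapPullbackAdj q).homEquiv T' A').symm g)))
    rw [Adjunction.homEquiv_naturality_left_symm, r.homEquiv_comp]
    change F.map _ (F.map _ _) = _
    rw [← Functor.map_comp_apply, ← Functor.map_comp_apply]
    congr 2

/-- The base change of a representing object represents the restriction. -/
noncomputable def repBC {A : Over S} (r : F.RepresentableBy A) :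
    ((Over.map v).op ⋙ F).RepresentableBy ((Over.pullback v).obj A) where
  homEquiv {T} := ((Over.mapPullbackAdj v).homEquiv T A).symm.trans r.homEquiv
  homEquiv_comp {T T'} f g := by
    change r.homEquiv (((Over.mapPullbackAdj v).homEquiv T A).symm (f ≫ g)) =
      F.map _ (r.homEquiv (((Over.mapPullbackAdj v).homEquiv T' A).symm g))
    rw [Adjunction.homEquiv_naturality_left_symm, r.homEquiv_comp]
    rfl

end restr

/-- Zariski descent of representability, for open immersions. -/
theorem exists_representableBy_of_openImmersion (hF : IsEtSheaf F)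
    (h : ∀ s : S, ∃ (V : Scheme.{u}) (v : V ⟶ S), IsOpenImmersion v ∧ s ∈ Set.range v ∧ ∃ A : Over V,
      Nonempty (((Over.map v).op ⋙ F).RepresentableBy A)) :
    ∃ A : Over S, Nonempty (F.RepresentableBy A) := by
  refine exists_representableBy_of_zariski hF fun s => ?_
  obtain ⟨V, v, hv, hs, A, ⟨r⟩⟩ := h s
  let O : S.Opens := v.opensRange
  let q : (O : Scheme.{u}) ⟶ V := (IsOpenImmersion.isoOfRangeEq O.ι v (by
    rw [Scheme.Opens.range_ι]
    rfl)).hom
  have hq : q ≫ v = O.ι := IsOpenImmersion.isoOfRangeEq_hom_fac _ _ _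
  exact ⟨O, hs, (Over.pullback q).obj A, ⟨repRestrict' v q O.ι hq r⟩⟩

end Groth.Agent.RedSub.H672.ZarGlue
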