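import Groth.Agent.CalgB.ProjField
import Groth.Agent.CalgB.AmpleProj
import Groth.Agent.CalgB.ProjImm
import Groth.Agent.Ega3B.ProjProper
import Mathlib.AlgebraicGeometry.ZariskisMainTheorem

/-!
# Quasi-finite over projective space implies quasi-projective

A scheme of finite type over an affine scheme `V` with a separated quasi-finite morphism (for example a monomorphism)
to a projective space over `V` has an immersion in a projective space over `V`.
-/

set_option autoImplicit false

open CategoryTheory Limits AlgebraicGeometry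

universe u

namespace Groth.Agent.RedSub.H672.MonoQP

/-- Pullback of an ample module under an affine morphism. -/
theorem isAmple_pullback_of_isAffineHom {X Y : Scheme.{u}} (f : X ⟶ Y) [IsAffineHom f] {E : Y.Modules}
    (hE : CohB1.IsAmple E) : CohB1.IsAmple ((Scheme.Modules.pullback f).obj E) :=
  CalgB.AmpleBase.isAmple_pullback f hE fun _ => ⟨⊤, trivial, fun _ _ hV => hV.preimage f⟩

/-- Quasi-finite over a scheme with an ample module. -/
theorem exists_isAmple_of_quasiFinite {X Y : Scheme.{u}} (h : X ⟶ Y) [LocallyOfFiniteType h] [QuasiCompact h]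
    [IsSeparated h] [LocallyQuasiFinite h] (hY : ∃ E : Y.Modules, CohB1.IsAmple E) :
    ∃ L : X.Modules, CohB1.IsAmple L := by
  obtain ⟨E, hE⟩ := hY
  exact ⟨_, CalgB.AmpleBase.isAmple_pullback_of_isImmersion h.toNormalization
    (isAmple_pullback_of_isAffineHom h.fromNormalization hE)⟩

/-- A scheme of finite type over an affine scheme, quasi-finite and separated over a projective space, is
quasi-projective. -/
theorem exists_immersion_of_quasiFinite {V X : Scheme.{u}} [IsAffine V] (f : X ⟶ V) [LocallyOfFiniteType f]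
    [QuasiCompact f] {m : ℕ} (h : X ⟶ CohB1.ProjSpaceOver m V) (hf : h ≫ CohB1.ProjSpaceOver.toBase m V = f)
    [IsSeparated h] [LocallyQuasiFinite h] :
    ∃ (n : ℕ) (i : X ⟶ CohB1.ProjSpaceOver n V), IsImmersion i ∧ i ≫ CohB1.ProjSpaceOver.toBase n V = f := by
  have hp : IsProper (CohB1.ProjSpaceOver.toBase m V) := Ega3B.ProjProper.isProper_toBase m V
  have h1 : LocallyOfFiniteType (h ≫ CohB1.ProjSpaceOver.toBase m V) := by rw [hf]; infer_instance
  have h2 : QuasiCompact (h ≫ CohB1.ProjSpaceOver.toBase m V) := by rw [hf]; infer_instance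
  have h3 : LocallyOfFiniteType h := locallyOfFiniteType_of_comp h (CohB1.ProjSpaceOver.toBase m V)
  have h4 : QuasiCompact h := QuasiCompact.of_comp h (CohB1.ProjSpaceOver.toBase m V)
  obtain ⟨L, hL⟩ := exists_isAmple_of_quasiFinite h
    (CalgB.AmpleProj.exists_isAmple_projSpaceOver m (CalgB.ProjField.exists_isAmple_of_isAffine V))
  obtain ⟨n, i, hi, -, hif⟩ := CalgB.ProjImm.exists_immersion f hL
  exact ⟨n, i, hi, hif⟩

/-- The case of a monomorphism. -/
theorem exists_immersion_of_mono {V X : Scheme.{u}} [IsAffine V] (f : X ⟶ V) [LocallyOfFiniteType f]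
    [QuasiCompact f] {m : ℕ} (h : X ⟶ CohB1.ProjSpaceOver m V) (hf : h ≫ CohB1.ProjSpaceOver.toBase m V = f)
    [Mono h] :
    ∃ (n : ℕ) (i : X ⟶ CohB1.ProjSpaceOver n V), IsImmersion i ∧ i ≫ CohB1.ProjSpaceOver.toBase n V = f := by
  have hp : IsProper (CohB1.ProjSpaceOver.toBase m V) := Ega3B.ProjProper.isProper_toBase m V
  have h1 : LocallyOfFiniteType (h ≫ CohB1.ProjSpaceOver.toBase m V) := by rw [hf]; infer_instance
  have h3 : LocallyOfFiniteType h := locallyOfFiniteType_of_comp h (CohB1.ProjSpaceOver.toBase m V)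
  have h5 : LocallyQuasiFinite h := LocallyQuasiFinite.of_injective h.injective
  exact exists_immersion_of_quasiFinite f h hf

end Groth.Agent.RedSub.H672.MonoQP
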