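import Groth.Agent.RedSub.H672.NormRel
import Groth.Agent.GrpQ.H773.Main

/-!
# Quotients by an equivalence relation which is locally the kernel pair of a morphism
-/

set_option autoImplicit false

open CategoryTheory Limits MonoidalCategory CartesianMonoidalCategory MonObj GrpObj AlgebraicGeometry

universe u

namespace Groth.Agent.RedSub.H672.QuotOfMap

open Groth.Agent.Sga3C.QuotRel Groth.Agent.Sga3C.QuotGlue Groth.Agent.GrpQ.H773.HasFact
  Groth.Agent.RedSub.H672.NormRel

section Rel

variable {R G X : Scheme.{u}} {t s : R ⟶ G} (hR : IsERel t s) {W : G.Opens} (hW : Sat t s W)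
  (F : W.toScheme ⟶ X)
  (hF : ∀ {T : Scheme.{u}} (a b : T ⟶ W.toScheme), a ≫ F = b ≫ F ↔ Rel t s (a ≫ W.ι) (b ≫ W.ι))

include hR hW hF in
/-- The first projection of the kernel pair of `F` is a base change of `t`. -/
theorem flat_fst [Flat t] : Flat (pullback.fst F F) := by
  obtain ⟨h, h1, h2⟩ := (hF (pullback.fst F F) (pullback.snd F F)).1 pullback.condition
  have hpb : IsPullback h (pullback.fst F F) t W.ι := by
    refine isPullback_of_exists h1 (fun {T} x y hx hy => ?_) fun {T} x w hxw => ?_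
    · apply pullback.hom_ext hy
      rw [← cancel_mono W.ι, Category.assoc, Category.assoc, ← h2, ← Category.assoc, ← Category.assoc, hx]
    · have hr : Set.range (x ≫ s) ⊆ Set.range W.ι := by
        rintro _ ⟨z, rfl⟩
        rw [Scheme.Opens.range_ι]
        have h3 := (hW (x z)).1 (by
          rw [← Scheme.Hom.comp_apply, hxw]
          exact (w z).2)
        rw [Scheme.Hom.comp_apply]
        exact h3
      let w' : T ⟶ W.toScheme := IsOpenImmersion.lift W.ι (x ≫ s) hr
      have hw' : w' ≫ W.ι = x ≫ s := IsOpenImmersion.lift_fac _ _ _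
      have h4 : w ≫ F = w' ≫ F := (hF w w').2 ⟨x, hxw, hw'.symm⟩
      refine ⟨pullback.lift w w' h4, ?_, pullback.lift_fst _ _ _⟩
      apply hR.mono
      · rw [Category.assoc, h1, ← Category.assoc, pullback.lift_fst, hxw]
      · rw [Category.assoc, h2, ← Category.assoc, pullback.lift_snd, hw']
  exact MorphismProperty.of_isPullback (P := @Flat) hpb inferInstance

include hR hW hF in
/-- The open subset `W` has a quotient. -/
theorem hasQuot [Flat t] [LocallyOfFinitePresentation F] : HasQuot t s W := by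
  have := flat_fst hR hW F hF
  obtain ⟨Z, g, h, h1, h2, h3, h4, h5⟩ := Groth.Agent.GrpQ.H773.Main.hasFact F
  refine ⟨Z, g, h2, h1, h3, fun {T} a b => ?_⟩
  rw [← hF, ← h5, ← Category.assoc, ← Category.assoc, cancel_mono h]

end Rel

variable {S : Scheme.{u}} {G N : Over S} [GrpObj G] [GrpObj N] (n : N ⟶ G)

/-- A quotient of `G.left` gives a quotient over `S`. -/
theorem exists_over [IsMonHom n] [Mono n] {X : Scheme.{u}} {q : G.left ⟶ X} (hq : IsQuot (tN n) (sN n) q) :
    ∃ (g : X ⟶ S) (hg : q ≫ g = G.hom),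
      IsPullback (fst G N) ((G ◁ n) ≫ μ[G]) (Over.homMk q hg : G ⟶ Over.mk g) (Over.homMk q hg) := by
  obtain ⟨g, hg⟩ := hq.exists_desc G.hom (act_hom n).symm
  let Q : Over S := Over.mk g
  let p : G ⟶ Q := Over.homMk q hg
  have hrel : ∀ {T : Scheme.{u}} (a b : T ⟶ G.left), a ≫ p.left = b ≫ p.left ↔ Rel (tN n) (sN n) a b :=
    fun a b => hq.rel_iff a b
  refine ⟨g, hg, ?_⟩
  have hw : fst G N ≫ p = ((G ◁ n) ≫ μ[G]) ≫ p := by
    apply Over.OverMorphism.ext
    exact (hrel (tN n) (sN n)).2 ⟨𝟙 _, by simp, by simp⟩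
  refine ⟨⟨hw⟩, ⟨PullbackCone.IsLimit.mk hw (fun c => lift c.fst
    (((rel_over_iff n c.fst c.snd).1 ((hrel _ _).1 (congrArg (fun z => z.left) c.condition))).choose)) ?_ ?_ ?_⟩⟩
  · intro c
    exact lift_fst _ _
  · intro c
    have h := ((rel_over_iff n c.fst c.snd).1
      ((hrel _ _).1 (congrArg (fun z => z.left) c.condition))).choose_spec
    rw [comp_act, lift_fst, lift_snd_assoc, h, mul_inv_cancel_left]
  · intro c m h1 h2
    have h := ((rel_over_iff n c.fst c.snd).1
      ((hrel _ _).1 (congrArg (fun z => z.left) c.condition))).choose_spec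
    apply CartesianMonoidalCategory.hom_ext
    · rw [h1, lift_fst]
    · rw [lift_snd, ← cancel_mono n, h, Category.assoc, ← h1, ← h2, comp_act, inv_mul_cancel_left]

end Groth.Agent.RedSub.H672.QuotOfMap
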