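import Groth.Agent.RedSub.H672.ValQuot
import Groth.Agent.RedSub.H672.NormQuot
import Groth.Agent.RedSub.H671.IwaPt
import Groth.Agent.RedSub.H650.ParClosed

/-!
# The quotient of a reductive group scheme by a parabolic subgroup is smooth and projective
-/

set_option autoImplicit false

open CategoryTheory Limits MonoidalCategory CartesianMonoidalCategory MonObj GrpObj AlgebraicGeometry

universe u

namespace Groth.Agent.RedSub.H672.ParProper

variable {S : Scheme.{u}} {G P : Over S} [GrpObj G] [GrpObj P]

/-- Parabolic subgroups are parabolic sub-group-schemes. -/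
theorem isParabolicSub {p : P ⟶ G} (hp : Red.IsParabolic p) : RedSub.IsParabolicSub p := by
  have h := hp.2.1
  exact ⟨⟨hp.1, inferInstance⟩, hp.2.2.1, fun s => (hp.2.2.2 s).2.2.2⟩

/-- The Iwasawa decomposition. -/
theorem iwasawa (hG : Red.IsReductive G) (p : P ⟶ G) (hp : Red.IsParabolic p) : ValQuot.Iwasawa p := by
  intro O K _ _ _ _ _ _ _ c g
  exact Groth.Agent.RedSub.H671.IwaPt.iwasawa hG p hp c g

/-- **Quotients by parabolic subgroups are smooth and projective.** -/
theorem exists_quotient (hG : Red.IsReductive G) (p : P ⟶ G) (hp : Red.IsParabolic p) :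
    ∃ (Q : Over S) (q : G ⟶ Q), RedSub.IsQuotient p q ∧ Smooth Q.hom ∧ IsProper Q.hom ∧
      RedSub.IsLocallyProjective Q := by
  obtain ⟨hG1, hG2, -⟩ := id hG
  obtain ⟨hp1, hp2, hp3, -⟩ := id hp
  have hm : Mono p := Over.mono_of_mono_left p
  have hsep : IsSeparated P.hom := by
    rw [← Over.w p]
    infer_instance
  have hqc : QuasiCompact P.hom := by
    rw [← Over.w p]
    infer_instance
  have hc := Groth.Agent.RedSub.H650.ParClosed.hasConnectedFibres hG p (isParabolicSub hp)
  obtain ⟨Q, q, h1, h2, h3, h4, h5⟩ := NormQuot.exists_quotient p p hc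
    (Groth.Agent.Redsub.H644.BorelClosed.isNormalizerOf_of_isParabolic hG hp)
  have hq : ∀ {T : Over S} (g : T ⟶ G) (h : T ⟶ P), (g * (h ≫ p)) ≫ q = g ≫ q := by
    intro T g h
    have h6 := congrArg (fun z => lift g h ≫ z) h1.2.2.2.w
    simp only [← Category.assoc, lift_fst] at h6
    rw [h6, Category.assoc (lift g h), NormRel.comp_act, lift_fst, lift_snd_assoc]
  have hpr : IsProper Q.hom := ValQuot.isProper p (iwasawa hG p hp) q h1.1 hq
  exact ⟨Q, q, h1, h2, hpr, ValQuot.isLocallyProjective Q h5⟩

end Groth.Agent.RedSub.H672.ParProper
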