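import Mathlib.RingTheory.Spectrum.Prime.FreeLocus
import Mathlib.LinearAlgebra.TensorProduct.RightExactness
import Mathlib.RingTheory.Localization.Free
import Mathlib.RingTheory.Localization.BaseChange
import Mathlib.RingTheory.Ideal.Quotient.Operations
import Groth.Agent.Sga3C.CWCoords

/-!
# Base change of the infinitesimal neighbourhoods of a section (algebra)
-/

set_option autoImplicit false

universe u

open TensorProduct

namespace Groth.Agent.RedSub.H672.ChartAlg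

/-- A finite projective module has a basis over a basic neighbourhood of a given point. -/
theorem exists_basis_away {R M : Type u} [CommRing R] [AddCommGroup M] [Module R M] [Module.Finite R M]
    [Module.Projective R M] (p : PrimeSpectrum R) :
    ∃ f : R, f ∉ p.asIdeal ∧ ∃ m : ℕ,
      Nonempty (Module.Basis (Fin m) (Localization.Away f) (Localization.Away f ⊗[R] M)) := by
  have : Module.FinitePresentation R M := Module.finitePresentation_of_projective R M
  have h1 : p ∈ Module.freeLocus R M := by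
    rw [Module.freeLocus_eq_univ]
    trivial
  have h2 : Module.Free (Localization.AtPrime p.asIdeal) (LocalizedModule p.asIdeal.primeCompl M) := h1
  obtain ⟨r, hr, hr', _⟩ := Module.FinitePresentation.exists_free_localizedModule_powers
    p.asIdeal.primeCompl (LocalizedModule.mkLinearMap p.asIdeal.primeCompl M)
    (Localization.AtPrime p.asIdeal)
  let e := LocalizedModule.equivTensorProduct (Submonoid.powers r) M
  have h3 : Module.Free (Localization.Away r) (Localization.Away r ⊗[R] M) := Module.Free.of_equiv e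
  have h4 : Module.Finite (Localization.Away r) (Localization.Away r ⊗[R] M) := inferInstance
  let b := Module.Free.chooseBasis (Localization.Away r) (Localization.Away r ⊗[R] M)
  exact ⟨r, hr, _, ⟨b.reindex (Fintype.equivFin _)⟩⟩

section BC

variable {R₀ R A₀ : Type u} [CommRing R₀] [CommRing R] [Algebra R₀ R] [CommRing A₀] [Algebra R₀ A₀]
  (δ₀ : A₀ →ₐ[R₀] R₀)

variable (R) in
/-- The base change of a section. -/
noncomputable def bcSec : R ⊗[R₀] A₀ →ₐ[R] R :=
  Algebra.TensorProduct.lift (AlgHom.id R R) ((Algebra.ofId R₀ R).comp δ₀) (fun _ _ => Commute.all _ _)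

theorem bcSec_tmul (r : R) (a : A₀) : bcSec R δ₀ (r ⊗ₜ a) = r * algebraMap R₀ R (δ₀ a) := by
  rw [bcSec, Algebra.TensorProduct.lift_tmul]
  rfl

theorem bcSec_right (a : A₀) : bcSec R δ₀ ((1 : R) ⊗ₜ[R₀] a) = algebraMap R₀ R (δ₀ a) := by
  rw [bcSec_tmul, one_mul]

theorem ker_bcSec : RingHom.ker (bcSec R δ₀) =
    (RingHom.ker δ₀).map (Algebra.TensorProduct.includeRight : A₀ →ₐ[R₀] R ⊗[R₀] A₀) := by
  have hs : Function.Surjective δ₀ := fun r => ⟨algebraMap R₀ A₀ r, δ₀.commutes r⟩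
  rw [← Algebra.TensorProduct.lTensor_ker (A := R) δ₀ hs]
  have h1 : bcSec R δ₀ = ((Algebra.TensorProduct.rid R₀ R R).toAlgHom).comp
      (Algebra.TensorProduct.map (AlgHom.id R R) δ₀) := by
    apply Algebra.TensorProduct.ext'
    intro r a
    rw [bcSec_tmul, AlgHom.comp_apply, Algebra.TensorProduct.map_tmul]
    change _ = Algebra.TensorProduct.rid R₀ R R (r ⊗ₜ δ₀ a)
    rw [Algebra.TensorProduct.rid_tmul, Algebra.smul_def, mul_comm]
  ext z
  rw [RingHom.mem_ker, RingHom.mem_ker, h1, AlgHom.comp_apply]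
  change Algebra.TensorProduct.rid R₀ R R _ = 0 ↔ _
  rw [EmbeddingLike.map_eq_zero_iff]
  rfl

/-- The infinitesimal neighbourhoods of a section commute with base change. -/
theorem nonempty_quotEquiv (n : ℕ) : Nonempty ((R ⊗[R₀] (A₀ ⧸ RingHom.ker δ₀ ^ n)) ≃ₗ[R]
    ((R ⊗[R₀] A₀) ⧸ RingHom.ker (bcSec R δ₀) ^ n)) := by
  let q : A₀ →ₐ[R₀] (A₀ ⧸ RingHom.ker δ₀ ^ n) := Ideal.Quotient.mkₐ R₀ _
  have hq : Function.Surjective q := Ideal.Quotient.mkₐ_surjective R₀ _
  let Q : R ⊗[R₀] A₀ →ₐ[R] R ⊗[R₀] (A₀ ⧸ RingHom.ker δ₀ ^ n) := Algebra.TensorProduct.map (AlgHom.id R R) q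
  have hQ : Function.Surjective Q :=
    Algebra.TensorProduct.map_surjective _ _ Function.surjective_id hq
  have h1 : RingHom.ker Q = RingHom.ker (bcSec R δ₀) ^ n := by
    have h2 := Algebra.TensorProduct.lTensor_ker (A := R) q hq
    have h3 : RingHom.ker q = RingHom.ker δ₀ ^ n := Ideal.Quotient.mkₐ_ker R₀ _
    rw [h3] at h2
    rw [ker_bcSec, ← Ideal.map_pow, ← h2]
    rfl
  let e1 : ((R ⊗[R₀] A₀) ⧸ RingHom.ker Q) ≃ₐ[R] R ⊗[R₀] (A₀ ⧸ RingHom.ker δ₀ ^ n) :=
    Ideal.quotientKerAlgEquivOfSurjective hQ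
  let e2 : ((R ⊗[R₀] A₀) ⧸ RingHom.ker Q) ≃ₐ[R] ((R ⊗[R₀] A₀) ⧸ RingHom.ker (bcSec R δ₀) ^ n) :=
    Ideal.quotientEquivAlgOfEq R h1
  exact ⟨(e1.symm.trans e2).toLinearEquiv⟩

end BC

/-- The infinitesimal neighbourhoods of a section of a smooth algebra are finite projective modules. -/
theorem finite_projective {R₀ A₀ : Type u} [CommRing R₀] [CommRing A₀] [Algebra R₀ A₀] [Algebra.Smooth R₀ A₀]
    (δ₀ : A₀ →ₐ[R₀] R₀) (k : ℕ) : Module.Finite R₀ (A₀ ⧸ RingHom.ker δ₀ ^ k) ∧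
      Module.Projective R₀ (A₀ ⧸ RingHom.ker δ₀ ^ k) := by
  let I : Ideal A₀ := RingHom.ker δ₀
  obtain ⟨κ, _, lam, e, h1, h2⟩ := Groth.Agent.Sga3C.CWCoords.exists_coords (A := R₀) (E := A₀) δ₀ k
  let q : A₀ →ₐ[R₀] (A₀ ⧸ I ^ k) := Ideal.Quotient.mkₐ R₀ (I ^ k)
  let L : κ → (A₀ ⧸ I ^ k) →ₗ[R₀] R₀ := fun i =>
    (Submodule.liftQ ((I ^ k).restrictScalars R₀) (lam i) (fun z hz => h1 i z hz)) ∘ₗ
      (Submodule.Quotient.restrictScalarsEquiv R₀ (I ^ k)).symm.toLinearMap
  have key : ∀ z : A₀ ⧸ I ^ k, ∑ i, L i z • q (e i) = z := by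
    intro z
    obtain ⟨f, rfl⟩ := Ideal.Quotient.mkₐ_surjective R₀ (I ^ k) z
    have h3 := h2 f
    have h4 : q f - ∑ i, lam i f • q (e i) = 0 := by
      have h5 : q (f - ∑ i, lam i f • e i) = 0 := Ideal.Quotient.eq_zero_iff_mem.2 h3
      rw [map_sub, map_sum] at h5
      simpa only [map_smul] using h5
    rw [sub_eq_zero] at h4
    exact h4.symm
  let s : (A₀ ⧸ I ^ k) →ₗ[R₀] (κ → R₀) := LinearMap.pi L
  let π : (κ → R₀) →ₗ[R₀] (A₀ ⧸ I ^ k) := Fintype.linearCombination R₀ (fun i => q (e i))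
  have hπs : π.comp s = LinearMap.id := by
    apply LinearMap.ext
    intro z
    rw [LinearMap.comp_apply, Fintype.linearCombination_apply]
    exact key z
  have hπ : Function.Surjective π := fun z => ⟨s z, LinearMap.congr_fun hπs z⟩
  exact ⟨Module.Finite.of_surjective π hπ, Module.Projective.of_split s π hπs⟩

/-- The infinitesimal neighbourhoods of a section of a smooth algebra are free over a basic neighbourhood of a
given point. -/
theorem exists_basis_nhd {R₀ A₀ : Type u} [CommRing R₀] [CommRing A₀] [Algebra R₀ A₀] [Algebra.Smooth R₀ A₀]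
    (δ₀ : A₀ →ₐ[R₀] R₀) (n : ℕ) (p : PrimeSpectrum R₀) :
    ∃ f : R₀, f ∉ p.asIdeal ∧ ∃ m : ℕ, Nonempty (Module.Basis (Fin m) (Localization.Away f)
      ((Localization.Away f ⊗[R₀] A₀) ⧸ RingHom.ker (bcSec (Localization.Away f) δ₀) ^ (n + 1))) := by
  obtain ⟨h1, h2⟩ := finite_projective δ₀ (n + 1)
  obtain ⟨f, hf, m, ⟨b⟩⟩ := exists_basis_away (M := A₀ ⧸ RingHom.ker δ₀ ^ (n + 1)) p
  obtain ⟨e⟩ := nonempty_quotEquiv (R := Localization.Away f) δ₀ (n + 1)
  exact ⟨f, hf, m, ⟨b.map e⟩⟩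

end Groth.Agent.RedSub.H672.ChartAlg
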