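import Groth.Agent.RedSub.H646.PtsRep
import Groth.Agent.RedSub.H672.ChartAlg
import Mathlib.AlgebraicGeometry.Morphisms.Smooth

/-!
# Affine charts of a smooth affine group with free infinitesimal neighbourhoods
-/

set_option autoImplicit false
universe u

open CategoryTheory CategoryTheory.Limits AlgebraicGeometry Opposite MonoidalCategory CartesianMonoidalCategory
  MonObj GrpObj
open TensorProduct
open Groth.Agent.Sga3B.Cell

namespace Groth.Agent.RedSub.H672.ChartBasis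

open Groth.Agent.RedSub.H646.PtsRep Groth.Agent.RedSub.H646.InfPt Groth.Agent.RedSub.H646.StabIdeal
open Groth.Agent.Sga3B.BcPts Groth.Agent.Books.AffBridge Groth.Agent.RedSub.H672.ChartAlg

variable {S : Scheme.{u}}

theorem one_left {X : Over S} (G : Over S) [GrpObj G] : (1 : X ⟶ G).left = X.hom ≫ η[G].left := by
  rw [Hom.one_def]
  rfl

theorem bcEquiv_left_fst {S' : Scheme.{u}} (f : S' ⟶ S) (T : Over S') (X : Over S)
    (x : (Over.map f).obj T ⟶ X) : (bcEquiv f T X x).left ≫ pullback.fst X.hom f = x.left := by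
  simp only [bcEquiv, Over.mapPullbackAdj, Adjunction.mkOfHomEquiv_homEquiv]
  exact pullback.lift_fst _ _ _

theorem one_bc_left_fst {S' : Scheme.{u}} (f : S' ⟶ S) (T : Over S') (G : Over S) [GrpObj G] :
    (1 : T ⟶ Red.bc f G).left ≫ pullback.fst G.hom f = T.hom ≫ f ≫ η[G].left := by
  have h1 : (1 : T ⟶ Red.bc f G) = bcEquiv f T G 1 := (bcEquiv_one f).symm
  rw [h1, bcEquiv_left_fst, one_left]
  exact Category.assoc _ _ _

/-- Affine coordinates for the base change of a group. -/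
theorem exists_affChart (G : Over S) [GrpObj G] {R A : Type u} [CommRing R] [CommRing A] [Algebra R A]
    (v : Spec (CommRingCat.of R) ⟶ S) (j : Spec (CommRingCat.of A) ⟶ G.left)
    (hj : IsPullback j (Spec.map (CommRingCat.ofHom (algebraMap R A))) G.hom v)
    (δ : A →ₐ[R] R) (hδ : Spec.map (CommRingCat.ofHom (δ : A →+* R)) ≫ j = v ≫ η[G].left) :
    ∃ (_ : PtGrp R A) (_ : AffChart (𝟙 (Spec (CommRingCat.of R))) (Red.bc v G) A),
      aug R A = RingHom.ker δ := by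
  let X : Over (Spec (CommRingCat.of R)) := Red.bc v G
  let i₁ : pullback G.hom v ≅ Spec (CommRingCat.of A) := (IsPullback.of_hasPullback G.hom v).isoIsPullback _ _ hj
  let e₁ : X ≅ SpecOver R A := Over.isoMk i₁
    ((IsPullback.of_hasPullback G.hom v).isoIsPullback_hom_snd _ _ hj)
  have he₁ : e₁.inv.left ≫ pullback.fst G.hom v = j :=
    (IsPullback.of_hasPullback G.hom v).isoIsPullback_inv_fst _ _ hj
  let φ : Red.bc (𝟙 (Spec (CommRingCat.of R))) X ≅ X := Over.isoMk (asIso (pullback.fst X.hom (𝟙 _))) (by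
    change pullback.fst X.hom (𝟙 _) ≫ X.hom = pullback.snd X.hom (𝟙 _)
    rw [pullback.condition, Category.comp_id])
  let e : Red.bc (𝟙 (Spec (CommRingCat.of R))) X ≅ SpecOver R A := φ ≪≫ e₁
  let _ := ptGrpOf e
  refine ⟨ptGrpOf e, AffChart.ofIso e, ?_⟩
  have hT : (SpecOver R R).hom = 𝟙 (Spec (CommRingCat.of R)) := by
    change Spec.map (CommRingCat.ofHom (algebraMap R R)) = _
    have h5 : CommRingCat.ofHom (algebraMap R R) = 𝟙 (CommRingCat.of R) := rfl
    rw [h5, Spec.map_id]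
  have h2 : specMap R δ ≫ e₁.inv = (1 : SpecOver R R ⟶ X) := by
    ext1
    apply pullback.hom_ext
    · refine Eq.trans ?_ (one_bc_left_fst v (SpecOver R R) G).symm
      rw [hT]
      refine Eq.trans ?_ (Category.id_comp _).symm
      refine (Category.assoc _ _ _).trans (Eq.trans ?_ hδ)
      exact congrArg (fun t => Spec.map (CommRingCat.ofHom (δ : A →+* R)) ≫ t) he₁
    · exact (Over.w (specMap R δ ≫ e₁.inv)).trans (Over.w (1 : SpecOver R R ⟶ X)).symm
  have h3 : specMap R δ ≫ e₁.inv ≫ φ.inv = (1 : SpecOver R R ⟶ Red.bc (𝟙 _) X) := by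
    rw [← Category.assoc, h2, ← cancel_mono φ.hom, Category.assoc, φ.inv_hom_id, Category.comp_id]
    ext1
    refine Eq.trans ?_ (one_bc_left_fst (𝟙 _) (SpecOver R R) X).symm
    rw [one_left, Category.id_comp]
  have h1 : (1 : Pt R A R) = Pt.mk δ := by
    apply (ptE e R).injective
    have h4 : ptE e R (1 : Pt R A R) = 1 := (ptE e R).apply_symm_apply _
    rw [h4]
    have h5 : ptE e R (Pt.mk δ) = (bcEquiv (𝟙 _) _ X).symm (specMap R δ ≫ e₁.inv ≫ φ.inv) := rfl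
    rw [h5, h3, Equiv.eq_symm_apply, bcEquiv_one]
  rw [aug, h1]
  rfl

/-- Base change of affine coordinates. -/
theorem bc_isPullback (G : Over S) {R₀ A₀ : Type u} [CommRing R₀] [CommRing A₀] [Algebra R₀ A₀]
    (v₀ : Spec (CommRingCat.of R₀) ⟶ S) (j₀ : Spec (CommRingCat.of A₀) ⟶ G.left)
    (hj₀ : IsPullback j₀ (Spec.map (CommRingCat.ofHom (algebraMap R₀ A₀))) G.hom v₀)
    (R : Type u) [CommRing R] [Algebra R₀ R] :
    IsPullback (Spec.map (CommRingCat.ofHom (Algebra.TensorProduct.includeRight : A₀ →ₐ[R₀] R ⊗[R₀] A₀).toRingHom) ≫ j₀)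
      (Spec.map (CommRingCat.ofHom (algebraMap R (R ⊗[R₀] A₀)))) G.hom
      (Spec.map (CommRingCat.ofHom (algebraMap R₀ R)) ≫ v₀) := by
  have h1 := isPullback_SpecMap_of_isPushout _ _ _ _ (CommRingCat.isPushout_tensorProduct R₀ R A₀)
  exact h1.flip.paste_horiz hj₀

theorem bc_unit (G : Over S) [GrpObj G] {R₀ A₀ : Type u} [CommRing R₀] [CommRing A₀] [Algebra R₀ A₀]
    (v₀ : Spec (CommRingCat.of R₀) ⟶ S) (j₀ : Spec (CommRingCat.of A₀) ⟶ G.left)
    (δ₀ : A₀ →ₐ[R₀] R₀) (hδ₀ : Spec.map (CommRingCat.ofHom (δ₀ : A₀ →+* R₀)) ≫ j₀ = v₀ ≫ η[G].left)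
    (R : Type u) [CommRing R] [Algebra R₀ R] :
    Spec.map (CommRingCat.ofHom (bcSec R δ₀ : R ⊗[R₀] A₀ →+* R)) ≫
      (Spec.map (CommRingCat.ofHom (Algebra.TensorProduct.includeRight : A₀ →ₐ[R₀] R ⊗[R₀] A₀).toRingHom) ≫ j₀) =
      (Spec.map (CommRingCat.ofHom (algebraMap R₀ R)) ≫ v₀) ≫ η[G].left := by
  rw [Category.assoc, ← hδ₀, ← Category.assoc, ← Category.assoc, ← Spec.map_comp, ← Spec.map_comp,
    ← CommRingCat.ofHom_comp, ← CommRingCat.ofHom_comp]
  congr 3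
  ext a
  exact bcSec_right δ₀ a

/-- Affine coordinates over a given affine scheme. -/
theorem exists_coords (G : Over S) [GrpObj G] (h1 : IsAffineHom G.hom) (h2 : Smooth G.hom) {R₀ : Type u} [CommRing R₀]
    (v₀ : Spec (CommRingCat.of R₀) ⟶ S) :
    ∃ (A₀ : Type u) (_ : CommRing A₀) (_ : Algebra R₀ A₀) (_ : Algebra.Smooth R₀ A₀)
      (j₀ : Spec (CommRingCat.of A₀) ⟶ G.left) (δ₀ : A₀ →ₐ[R₀] R₀),
      IsPullback j₀ (Spec.map (CommRingCat.ofHom (algebraMap R₀ A₀))) G.hom v₀ ∧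
      Spec.map (CommRingCat.ofHom (δ₀ : A₀ →+* R₀)) ≫ j₀ = v₀ ≫ η[G].left := by
  let Y := pullback G.hom v₀
  let q : Y ⟶ Spec (CommRingCat.of R₀) := pullback.snd G.hom v₀
  have hq1 : IsAffineHom q := inferInstance
  have hq2 : Smooth q := inferInstance
  have hY : IsAffine Y := isAffine_of_isAffineHom q
  obtain ⟨ρ, hρ⟩ := Spec.map_surjective (Y.isoSpec.inv ≫ q)
  have hw : (v₀ ≫ η[G].left) ≫ G.hom = 𝟙 _ ≫ v₀ := by
    have := Over.w η[G]
    rw [Category.assoc, this]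
    rfl
  let σ : Spec (CommRingCat.of R₀) ⟶ Y := pullback.lift (v₀ ≫ η[G].left) (𝟙 _) hw
  obtain ⟨d, hd⟩ := Spec.map_surjective (σ ≫ Y.isoSpec.hom)
  have hρd : ρ ≫ d = 𝟙 _ := by
    apply Spec.map_injective
    rw [Spec.map_comp, hρ, hd, Category.assoc, Iso.hom_inv_id_assoc, pullback.lift_snd, Spec.map_id]
  let _ : Algebra R₀ Γ(Y, ⊤) := ρ.hom.toAlgebra
  have hsm : Algebra.Smooth R₀ Γ(Y, ⊤) := by
    have h3 : Smooth (Spec.map ρ) := by rw [hρ]; infer_instance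
    exact (HasRingHomProperty.Spec_iff (P := @Smooth)).1 h3
  let δ₀ : Γ(Y, ⊤) →ₐ[R₀] R₀ := { d.hom with
    commutes' := fun r => congrArg (fun f => CommRingCat.Hom.hom f r) hρd }
  refine ⟨Γ(Y, ⊤), inferInstance, inferInstance, hsm, Y.isoSpec.inv ≫ pullback.fst G.hom v₀, δ₀, ?_, ?_⟩
  · have h3 : IsPullback Y.isoSpec.inv (Spec.map ρ) q (𝟙 _) := IsPullback.of_horiz_isIso ⟨by
      rw [Category.comp_id, hρ]⟩
    have h4 := h3.paste_horiz (IsPullback.of_hasPullback G.hom v₀)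
    rw [Category.id_comp] at h4
    exact h4
  · change Spec.map d ≫ _ = _
    rw [hd, Category.assoc, Iso.hom_inv_id_assoc, pullback.lift_fst]

/-- **Affine charts with free infinitesimal neighbourhoods of the unit.** -/
theorem exists_chart {S : Scheme.{u}} (G : Over S) [GrpObj G] (h1 : IsAffineHom G.hom) (h2 : Smooth G.hom) (s : S)
    (n : ℕ) :
    ∃ (R : Type u) (_ : CommRing R) (v : Spec (CommRingCat.of R) ⟶ S) (_ : IsOpenImmersion v)
      (_ : s ∈ Set.range v) (A : Type u) (_ : CommRing A) (_ : Algebra R A) (_ : PtGrp R A)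
      (_ : AffChart (𝟙 (Spec (CommRingCat.of R))) (Red.bc v G) A) (J : Type) (_ : Fintype J),
      Nonempty (Module.Basis J R (Wn R A n)) := by
  obtain ⟨V, hV, hsV, -⟩ := exists_isAffineOpen_mem_and_subset (U := (⊤ : S.Opens)) (x := s) trivial
  obtain ⟨p, hp⟩ : s ∈ Set.range hV.fromSpec := by rw [hV.range_fromSpec]; exact hsV
  obtain ⟨A₀, _, _, _, j₀, δ₀, hj₀, hδ₀⟩ := exists_coords G h1 h2 (R₀ := Γ(S, V)) hV.fromSpec
  obtain ⟨f, hf, m, ⟨b⟩⟩ := exists_basis_nhd δ₀ n p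
  let R := Localization.Away f
  obtain ⟨i1, i2, h3⟩ := exists_affChart G (Spec.map (CommRingCat.ofHom (algebraMap Γ(S, V) R)) ≫ hV.fromSpec) _
    (bc_isPullback G hV.fromSpec j₀ hj₀ R) (bcSec R δ₀) (bc_unit G hV.fromSpec j₀ δ₀ hδ₀ R)
  refine ⟨R, inferInstance, Spec.map (CommRingCat.ofHom (algebraMap Γ(S, V) R)) ≫ hV.fromSpec, ?_, ?_,
    R ⊗[Γ(S, V)] A₀, inferInstance, inferInstance, i1, i2, Fin m, inferInstance, ?_⟩
  · have : IsOpenImmersion (Spec.map (CommRingCat.ofHom (algebraMap Γ(S, V) R))) :=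
      IsOpenImmersion.of_isLocalization f
    infer_instance
  · have h4 : p ∈ Set.range (Spec.map (CommRingCat.ofHom (algebraMap Γ(S, V) R))) := by
      have h5 : Set.range (PrimeSpectrum.comap (algebraMap Γ(S, V) R)) = PrimeSpectrum.basicOpen f :=
        PrimeSpectrum.localization_away_comap_range R f
      have h6 : p ∈ Set.range (PrimeSpectrum.comap (algebraMap Γ(S, V) R)) := by
        rw [h5]
        exact hf
      exact h6
    obtain ⟨p', hp'⟩ := h4
    exact ⟨p', by rw [Scheme.Hom.comp_apply, hp', hp]⟩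
  · change Nonempty (Module.Basis (Fin m) R ((R ⊗[Γ(S, V)] A₀) ⧸ aug R (R ⊗[Γ(S, V)] A₀) ^ (n + 1)))
    rw [h3]
    exact ⟨b⟩

end Groth.Agent.RedSub.H672.ChartBasis
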