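import Groth.Agent.Fga.Grass

/-!
# Kernels of surjective matrices as points of the Grassmannian
-/

set_option autoImplicit false

universe u

open Matrix CategoryTheory

set_option linter.unusedSectionVars false

namespace Groth.Agent.RedSub.H672.KerMat

open Groth.Agent.Fga.GrassBasic Groth.Agent.Fga.GrassChart Groth.Agent.Fga.Grass

variable {B C : Type u} [CommRing B] [CommRing C] {ι : Type} [Fintype ι] [DecidableEq ι] {d : ℕ}

/-- A matrix with surjective `mulVec` has a right inverse. -/
theorem exists_rightInv (M : Matrix (Fin d) ι B) (hM : Function.Surjective M.mulVec) :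
    ∃ N : Matrix ι (Fin d) B, M * N = 1 := by
  choose w hw using fun k : Fin d => hM (Pi.single k 1)
  refine ⟨Matrix.of fun j k => w k j, ?_⟩
  ext i k
  have h1 := congrFun (hw k) i
  rw [Matrix.mul_apply]
  have h2 : ∑ j, M i j * (Matrix.of (fun j k => w k j) : Matrix ι (Fin d) B) j k = (M *ᵥ w k) i := rfl
  rw [h2, h1, Matrix.one_apply, Pi.single_apply]

theorem surjective_of_rightInv {M : Matrix (Fin d) ι B} {N : Matrix ι (Fin d) B} (h : M * N = 1) :
    Function.Surjective M.mulVec := fun b => ⟨N *ᵥ b, by rw [Matrix.mulVec_mulVec, h, Matrix.one_mulVec]⟩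

theorem surjective_map (φ : B →+* C) {M : Matrix (Fin d) ι B} (hM : Function.Surjective M.mulVec) :
    Function.Surjective (M.map φ).mulVec := by
  obtain ⟨N, hN⟩ := exists_rightInv M hM
  refine surjective_of_rightInv (N := N.map φ) ?_
  rw [← Matrix.map_mul, hN]
  simp

/-- The kernel of a surjective matrix is a point of the Grassmannian. -/
theorem isQuotRank_kerM {M : Matrix (Fin d) ι B} (hM : Function.Surjective M.mulVec) :
    IsQuotRank d (kerM M) := by
  cases subsingleton_or_nontrivial B
  · exact isQuotRank_of_subsingleton _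
  · let e : ((ι → B) ⧸ kerM M) ≃ₗ[B] (Fin d → B) :=
      LinearMap.quotKerEquivOfSurjective M.mulVecLin hM
    constructor
    · exact Module.Projective.of_equiv e.symm
    · intro p
      rw [Module.rankAtStalk_eq_of_equiv e, Module.rankAtStalk_eq_finrank_of_free]
      simp

theorem map_mulVec (φ : B →+* C) (M : Matrix (Fin d) ι B) (v : ι → B) :
    (M.map φ) *ᵥ (fun i => φ (v i)) = fun k => φ ((M *ᵥ v) k) := kerM_map_aux φ M v

/-- The kernel of a surjective matrix commutes with base change. -/
theorem bc_kerM (φ : B →+* C) {M : Matrix (Fin d) ι B} (hM : Function.Surjective M.mulVec) :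
    bc φ (kerM M) = kerM (M.map φ) := by
  apply le_antisymm
  · rw [bc_le_iff]
    intro v hv
    rw [mem_kerM] at hv ⊢
    rw [map_mulVec, hv]
    ext k
    simp
  · obtain ⟨N, hN⟩ := exists_rightInv M hM
    intro v hv
    rw [mem_kerM] at hv
    let P : Matrix ι ι B := 1 - N * M
    have hP : ∀ w, P *ᵥ w ∈ kerM M := by
      intro w
      rw [mem_kerM, Matrix.mulVec_mulVec, Matrix.mul_sub, ← Matrix.mul_assoc, hN, Matrix.mul_one, Matrix.one_mul,
        sub_self, Matrix.zero_mulVec]
    have h1 : v = (P.map φ) *ᵥ v := by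
      have h2 : P.map φ = 1 - N.map φ * M.map φ := by
        ext i j
        simp only [P, Matrix.map_apply, Matrix.sub_apply, map_sub, Matrix.one_apply, apply_ite φ, map_one,
          map_zero, ← Matrix.map_mul]
      rw [h2, Matrix.sub_mulVec, Matrix.one_mulVec, ← Matrix.mulVec_mulVec, hv, Matrix.mulVec_zero, sub_zero]
    have h3 : (P.map φ) *ᵥ v = ∑ j, v j • (fun i => φ (P i j)) := by
      ext i
      rw [Matrix.mulVec, dotProduct, Finset.sum_apply]
      refine Finset.sum_congr rfl fun j _ => ?_
      rw [Pi.smul_apply, smul_eq_mul, Matrix.map_apply, mul_comm]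
    rw [h1, h3]
    refine Submodule.sum_mem _ fun j _ => Submodule.smul_mem _ _ ?_
    have h4 := mem_bc_of_mem φ (hP (Pi.single j 1))
    have h5 : (fun i => φ ((P *ᵥ Pi.single j 1) i)) = fun i => φ (P i j) := by
      ext i
      rw [Matrix.mulVec_single_one]
      rfl
    rwa [h5] at h4

/-- The point of the Grassmannian given by a surjective matrix. -/
def grPt {B : CommRingCat.{u}} (M : Matrix (Fin d) ι B) (hM : Function.Surjective M.mulVec) :
    (grFun.{u} ι d).obj B := ⟨kerM M, isQuotRank_kerM hM⟩

theorem map_grPt {B C : CommRingCat.{u}} (φ : B ⟶ C) (M : Matrix (Fin d) ι B)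
    (hM : Function.Surjective M.mulVec) :
    (grFun.{u} ι d).map φ (grPt M hM) = grPt (M.map φ.hom) (surjective_map φ.hom hM) :=
  Subtype.ext (bc_kerM φ.hom hM)

theorem grPt_eq_iff {B : CommRingCat.{u}} (M M' : Matrix (Fin d) ι B)
    (hM : Function.Surjective M.mulVec) (hM' : Function.Surjective M'.mulVec) :
    grPt M hM = grPt M' hM' ↔ kerM M = kerM M' := Subtype.ext_iff

end Groth.Agent.RedSub.H672.KerMat
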