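import Groth.Agent.RedSub.H672.OrbAlg
import Groth.Agent.RedSub.H672.KerMat

/-!
# The orbit map to the Grassmannian, in matrix form

For a finite family `e` of elements of `A` generating `A` modulo the `k`-th power of the augmentation ideal, and a
dual basis `(lam, x)` of the finite projective module `E`, the matrix `mat g` of the point `g` of `Pt R A B` has
surjective `mulVec`, is natural in `B`, and its kernel is contained in that of `mat g'` if and only if
`g⁻¹ g'` stabilises `y`.
-/

set_option autoImplicit false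
set_option linter.unusedSectionVars false

universe u

open TensorProduct Matrix

namespace Groth.Agent.RedSub.H672.OrbAlg

open Groth.Agent.Sga3B.Cell Groth.Agent.Sga3C.CWSection Groth.Agent.Fga.GrassChart Groth.Agent.Fga.GrassBasic
  Groth.Agent.RedSub.H672.KerMat

variable {R A E : Type u} [CommRing R] [CommRing A] [Algebra R A] [PtGrp R A] [CommRing E] [Algebra R E]
  (y : Pt R A E)
variable {B C : Type u} [CommRing B] [Algebra R B] [CommRing C] [Algebra R C]

section Lin

/-- Base change of a linear form. -/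
noncomputable def formB (B : Type u) [CommRing B] [Algebra R B] (lam : E →ₗ[R] R) : B ⊗[R] E →ₗ[B] B :=
  (TensorProduct.AlgebraTensorModule.rid R B B).toLinearMap ∘ₗ lam.baseChange B

omit [PtGrp R A] in
theorem formB_tmul (lam : E →ₗ[R] R) (b : B) (z : E) : formB B lam (b ⊗ₜ z) = b * algebraMap R B (lam z) := by
  change (TensorProduct.AlgebraTensorModule.rid R B B) (lam.baseChange B (b ⊗ₜ z)) = _
  rw [LinearMap.baseChange_tmul, TensorProduct.AlgebraTensorModule.rid_tmul, Algebra.smul_def, mul_comm]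

omit [PtGrp R A] in
theorem formB_map (lam : E →ₗ[R] R) (φ : B →ₐ[R] C) (z : B ⊗[R] E) :
    formB C lam (Algebra.TensorProduct.map φ (AlgHom.id R E) z) = φ (formB B lam z) := by
  induction z with
  | zero => simp
  | add a b ha hb => rw [map_add, map_add, ha, hb, map_add, map_add]
  | tmul b x =>
    rw [Algebra.TensorProduct.map_tmul, formB_tmul, formB_tmul, map_mul, AlgHom.commutes]
    rfl

variable {m : ℕ} {lam : Fin m → E →ₗ[R] R} {x : Fin m → E} (hx : ∀ z : E, ∑ i, lam i z • x i = z)

include hx in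
omit [PtGrp R A] in
theorem sum_formB (z : B ⊗[R] E) : ∑ i, formB B (lam i) z • ((1 : B) ⊗ₜ[R] x i) = z := by
  induction z with
  | zero => simp
  | add a b ha hb =>
    simp only [map_add, add_smul, Finset.sum_add_distrib, ha, hb]
  | tmul b z =>
    conv_rhs => rw [← hx z]
    rw [TensorProduct.tmul_sum]
    refine Finset.sum_congr rfl fun i _ => ?_
    rw [formB_tmul, TensorProduct.tmul_smul, TensorProduct.smul_tmul', TensorProduct.smul_tmul',
      smul_eq_mul, mul_one, Algebra.smul_def, mul_comm]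

end Lin

section Mat

variable {ι : Type} [Fintype ι] [DecidableEq ι] (e : ι → A) {m : ℕ} (lam : Fin m → E →ₗ[R] R) (x : Fin m → E)

/-- The matrix of a point. -/
noncomputable def mat (g : Pt R A B) : Matrix (Fin m) (ι ⊕ Fin m) B :=
  Matrix.of fun i => Sum.elim (fun j => formB B (lam i) ((cj y g).hom (e j)))
    (fun l => (if i = l then 1 else 0) - algebraMap R B (lam i (x l)))

/-- The combination of the values at `e` of the conjugate point. -/
noncomputable def comb (g : Pt R A B) (v : ι → B) : B ⊗[R] E := ∑ j, v j • (cj y g).hom (e j)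

theorem mat_mulVec (g : Pt R A B) (v : ι ⊕ Fin m → B) (i : Fin m) :
    (mat y e lam x g *ᵥ v) i = formB B (lam i) (comb y e g (fun j => v (Sum.inl j))) +
      (v (Sum.inr i) - formB B (lam i) (∑ l, v (Sum.inr l) • ((1 : B) ⊗ₜ[R] x l))) := by
  rw [Matrix.mulVec, dotProduct, Fintype.sum_sum_type]
  congr 1
  · rw [comb, map_sum]
    refine Finset.sum_congr rfl fun j _ => ?_
    rw [map_smul, smul_eq_mul, mul_comm]
    rfl
  · rw [map_sum]
    have h1 : ∀ l, mat y e lam x g i (Sum.inr l) * v (Sum.inr l) =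
        (if i = l then v (Sum.inr l) else 0) - formB B (lam i) (v (Sum.inr l) • ((1 : B) ⊗ₜ[R] x l)) := by
      intro l
      have h2 : mat y e lam x g i (Sum.inr l) = (if i = l then 1 else 0) - algebraMap R B (lam i (x l)) := rfl
      rw [h2, map_smul, formB_tmul, one_mul, smul_eq_mul, sub_mul, mul_comm (algebraMap R B _)]
      congr 1
      split_ifs <;> simp
    rw [Finset.sum_congr rfl fun l _ => h1 l, Finset.sum_sub_distrib]
    simp

variable {e lam x}

/-- Naturality of the matrix. -/
theorem mat_map (φ : B →ₐ[R] C) (g : Pt R A B) :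
    mat y e lam x (Pt.map φ g) = (mat y e lam x g).map φ := by
  ext i k
  rcases k with j | l
  · change formB C (lam i) ((cj y (Pt.map φ g)).hom (e j)) = φ (formB B (lam i) ((cj y g).hom (e j)))
    rw [← cj_nat, ← formB_map]
    rfl
  · change (if i = l then 1 else 0) - algebraMap R C (lam i (x l)) =
      φ ((if i = l then 1 else 0) - algebraMap R B (lam i (x l)))
    rw [map_sub, AlgHom.commutes]
    split_ifs <;> simp

variable (hx : ∀ z : E, ∑ i, lam i z • x i = z)

include hx in
theorem mem_kerM_mat (g : Pt R A B) (v : ι ⊕ Fin m → B) :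
    v ∈ kerM (mat y e lam x g) ↔ comb y e g (fun j => v (Sum.inl j)) = 0 ∧
      ∀ i, v (Sum.inr i) = formB B (lam i) (∑ l, v (Sum.inr l) • ((1 : B) ⊗ₜ[R] x l)) := by
  rw [mem_kerM]
  constructor
  · intro h
    have h1 : ∀ i, formB B (lam i) (comb y e g (fun j => v (Sum.inl j))) +
      (v (Sum.inr i) - formB B (lam i) (∑ l, v (Sum.inr l) • ((1 : B) ⊗ₜ[R] x l))) = 0 := by
      intro i
      rw [← mat_mulVec, h]
      rfl
    have h2 : comb y e g (fun j => v (Sum.inl j)) = 0 := by
      have h3 : ∑ i, (formB B (lam i) (comb y e g (fun j => v (Sum.inl j))) +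
        (v (Sum.inr i) - formB B (lam i) (∑ l, v (Sum.inr l) • ((1 : B) ⊗ₜ[R] x l)))) • ((1 : B) ⊗ₜ[R] x i) =
          0 := Finset.sum_eq_zero fun i _ => by rw [h1 i, zero_smul]
      simp only [add_smul, sub_smul, Finset.sum_add_distrib, Finset.sum_sub_distrib, sum_formB hx, sub_self,
        add_zero] at h3
      exact h3
    refine ⟨h2, fun i => ?_⟩
    have h3 := h1 i
    rw [h2, map_zero, zero_add, sub_eq_zero] at h3
    exact h3
  · rintro ⟨h1, h2⟩
    ext i
    rw [mat_mulVec, h1, map_zero, zero_add, ← h2 i, sub_self]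
    rfl

section Gen

variable (hy : Function.Surjective y.hom) (δ : E →ₐ[R] R) (hδ : Pt.map δ y = 1) {k : ℕ}
  (hk : RingHom.ker δ ^ k = ⊥)
  (he : ∀ f : A, ∃ c : ι → R, f - ∑ j, c j • e j ∈ RingHom.ker (1 : Pt R A R).hom ^ k)

include hδ hk he in
/-- The value of `rho` is a combination of the values at `e`. -/
theorem exists_comb (z : B ⊗[R] A) : ∃ v : ι → B, ∀ g : Pt R A B, rho y g z = comb y e g v := by
  induction z with
  | zero => exact ⟨0, fun g => by simp [comb]⟩
  | add a b ha hb =>
    obtain ⟨v, hv⟩ := ha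
    obtain ⟨w, hw⟩ := hb
    refine ⟨v + w, fun g => ?_⟩
    rw [map_add, hv, hw]
    simp only [comb, Pi.add_apply, add_smul, Finset.sum_add_distrib]
  | tmul b f =>
    obtain ⟨c, hc⟩ := he f
    refine ⟨fun j => b * algebraMap R B (c j), fun g => ?_⟩
    have h1 := cj_eq_zero y δ hδ hk g _ hc
    rw [map_sub, sub_eq_zero] at h1
    rw [rho_tmul, h1, map_sum, comb, Finset.smul_sum]
    refine Finset.sum_congr rfl fun j _ => ?_
    rw [map_smul, mul_smul, algebraMap_smul]

theorem comb_eq_rho (g : Pt R A B) (v : ι → B) : comb y e g v = rho y g (∑ j, v j ⊗ₜ e j) := by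
  rw [map_sum, comb]
  exact Finset.sum_congr rfl fun j _ => (rho_tmul y g _ _).symm

include hx hy hδ hk he in
theorem mat_surjective (g : Pt R A B) : Function.Surjective (mat y e lam x g).mulVec := by
  intro w
  obtain ⟨z, hz⟩ := rho_surjective y hy g (∑ l, w l • ((1 : B) ⊗ₜ[R] x l))
  obtain ⟨v, hv⟩ := exists_comb y δ hδ hk he z
  refine ⟨Sum.elim v w, ?_⟩
  ext i
  rw [mat_mulVec]
  have h1 : comb y e g (fun j => (Sum.elim v w : ι ⊕ Fin m → B) (Sum.inl j)) =
      ∑ l, w l • ((1 : B) ⊗ₜ[R] x l) := by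
    rw [← hz, hv g]
    rfl
  rw [h1]
  simp

include hx hy hδ hk he in
/-- The kernels detect the stabiliser. -/
theorem kerM_mat_le_iff (a b : Pt R A B) :
    kerM (mat y e lam x a) ≤ kerM (mat y e lam x b) ↔ St y (a⁻¹ * b) := by
  rw [st_inv_mul_iff]
  constructor
  · intro h
    have h1 : ∀ v : ι → B, comb y e a v = 0 → comb y e b v = 0 := by
      intro v hv
      have h2 : (Sum.elim v 0 : ι ⊕ Fin m → B) ∈ kerM (mat y e lam x a) := by
        rw [mem_kerM_mat y hx]
        refine ⟨hv, fun i => ?_⟩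
        simp
      exact ((mem_kerM_mat y hx b _).1 (h h2)).1
    have h2 : ∀ z ∈ RingHom.ker (rho y a), rho y b z = 0 := by
      intro z hz
      obtain ⟨v, hv⟩ := exists_comb y δ hδ hk he z
      rw [hv b]
      apply h1
      rw [← hv a]
      exact hz
    let τ : B ⊗[R] E →ₐ[B] B ⊗[R] E :=
      (Ideal.Quotient.liftₐ (RingHom.ker (rho y a)) (rho y b) h2).comp
        (Ideal.quotientKerAlgEquivOfSurjective (rho_surjective y hy a)).symm.toAlgHom
    have hτ : ∀ z, τ (rho y a z) = rho y b z := by
      intro z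
      have h3 : (Ideal.quotientKerAlgEquivOfSurjective (rho_surjective y hy a)).symm (rho y a z) =
          Ideal.Quotient.mk _ z := by
        rw [AlgEquiv.symm_apply_eq]
        rfl
      change (Ideal.Quotient.liftₐ (RingHom.ker (rho y a)) (rho y b) h2)
        ((Ideal.quotientKerAlgEquivOfSurjective (rho_surjective y hy a)).symm (rho y a z)) = _
      rw [h3]
      rfl
    refine ⟨τ, ?_⟩
    ext f
    have h3 := hτ (1 ⊗ₜ f)
    rw [rho_tmul, rho_tmul, one_smul, one_smul] at h3
    exact h3.symm
  · rintro ⟨τ, hτ⟩ v hv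
    rw [mem_kerM_mat y hx] at hv ⊢
    refine ⟨?_, hv.2⟩
    have h1 : comb y e b (fun j => v (Sum.inl j)) = τ (comb y e a (fun j => v (Sum.inl j))) := by
      rw [comb, comb, map_sum]
      refine Finset.sum_congr rfl fun j _ => ?_
      rw [hτ, map_smul]
      rfl
    rw [h1, hv.1, map_zero]

include hx hy hδ hk he in
/-- The stabiliser condition is closed. -/
theorem exists_ideal : ∃ 𝔞 : Ideal A, ∀ (B : Type u) [CommRing B] [Algebra R B] (g : Pt R A B),
    (∀ a ∈ 𝔞, g.hom a = 0) ↔ St y g := by
  let u : Pt R A A := Pt.mk (AlgHom.id R A)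
  let M₁ := mat y e lam x (1 : Pt R A R)
  refine ⟨Ideal.span {a | ∃ v ∈ kerM M₁, ∃ i, a = (mat y e lam x u *ᵥ fun k => algebraMap R A (v k)) i}, ?_⟩
  intro B _ _ g
  have hu : Pt.map g.hom u = g := rfl
  have h1 : (1 : Pt R A B) = Pt.map (Algebra.ofId R B) (1 : Pt R A R) := (Pt.map_one _).symm
  have h2 : St y g ↔ kerM (mat y e lam x (1 : Pt R A B)) ≤ kerM (mat y e lam x g) := by
    rw [kerM_mat_le_iff y hx hy δ hδ hk he, inv_one, one_mul]
  have h3 : kerM (mat y e lam x (1 : Pt R A B)) = bc (algebraMap R B) (kerM M₁) := by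
    rw [bc_kerM (algebraMap R B) (mat_surjective y hx hy δ hδ hk he 1), h1, mat_map]
    rfl
  rw [h2, h3, bc_le_iff]
  have h4 : ∀ v : ι ⊕ Fin m → R, (mat y e lam x g *ᵥ fun k => algebraMap R B (v k)) =
      fun i => g.hom ((mat y e lam x u *ᵥ fun k => algebraMap R A (v k)) i) := by
    intro v
    have h5 : mat y e lam x g = (mat y e lam x u).map g.hom := by
      conv_lhs => rw [← hu]
      rw [mat_map]
    have h6 := map_mulVec (g.hom : A →+* B) (mat y e lam x u) (fun k => algebraMap R A (v k))
    have h7 : (fun k => (g.hom : A →+* B) (algebraMap R A (v k))) = fun k => algebraMap R B (v k) := by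
      ext k
      exact g.hom.commutes _
    rw [h5]
    rw [h7] at h6
    exact h6
  constructor
  · intro h v hv
    rw [mem_kerM, h4]
    ext i
    exact h _ (Ideal.subset_span ⟨v, hv, i, rfl⟩)
  · intro h a ha
    have h5 : Ideal.span {a | ∃ v ∈ kerM M₁, ∃ i, a = (mat y e lam x u *ᵥ fun k => algebraMap R A (v k)) i} ≤
        RingHom.ker g.hom := by
      rw [Ideal.span_le]
      rintro _ ⟨v, hv, i, rfl⟩
      have h6 := h v hv
      rw [mem_kerM, h4] at h6
      exact congrFun h6 i
    exact h5 ha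

end Gen

end Mat

end Groth.Agent.RedSub.H672.OrbAlg
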