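import Groth.Agent.RedSub.H672.InfData
import Groth.Agent.RedSub.H672.OrbMat
import Groth.Agent.Sga3B.Chart
import Mathlib.Algebra.Category.Ring.Epi

/-!
# The infinitesimal stabiliser in a chart

In an affine chart `c` of `G` over `s : Spec R ⟶ S` the condition `InfStab i k` (conjugation by `g` carries the
infinitesimal points of order `k` of `H` to `H`) is the condition `St y g` of `OrbAlg` for the universal infinitesimal
point `y`.
-/

set_option autoImplicit false

open CategoryTheory Limits MonoidalCategory CartesianMonoidalCategory MonObj GrpObj AlgebraicGeometry TensorProduct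

universe u

namespace Groth.Agent.RedSub.H672.InfBridge

open Groth.Agent.Sga3B Groth.Agent.Sga3B.PinMod Groth.Agent.Sga3B.Cell Groth.Agent.RedSub.H672.InfNorm
  Groth.Agent.RedSub.H672.OrbAlg Groth.Agent.Sga3C.CWSection

variable {S : Scheme.{u}} {G H : Over S} [GrpObj G] [GrpObj H] {R : Type u} [CommRing R]
  {s : Spec (CommRingCat.of R) ⟶ S} (c : Chart G s) (i : H ⟶ G) {k : ℕ} (d : InfData.Data s H k)

theorem tMap_comp {A B C : Type u} [CommRing A] [Algebra R A] [CommRing B] [Algebra R B] [CommRing C]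
    [Algebra R C] (φ : A →ₐ[R] B) (ψ : B →ₐ[R] C) : tMap s ψ ≫ tMap s φ = tMap s (ψ.comp φ) := by
  apply Over.OverMorphism.ext
  rw [Over.comp_left, tMap_left, tMap_left, tMap_left, ← Spec.map_comp, ← CommRingCat.ofHom_comp]
  rfl

/-- The universal infinitesimal point of `H` as a point of `G` in the chart. -/
noncomputable def yPt : Pt R c.A d.E := (c.pts d.E).symm (d.yH ≫ i)

theorem pts_yPt : c.pts d.E (yPt c i d) = d.yH ≫ i := (c.pts d.E).apply_symm_apply _

theorem yPt_δ [IsMonHom i] : Pt.map d.δ (yPt c i d) = 1 := by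
  apply (c.pts R).injective
  rw [← c.pts_nat, pts_yPt, ← Category.assoc, d.δ_comp, one_comp, map_one]

theorem yPt_surjective [Mono i] : Function.Surjective (yPt c i d).hom := by
  have h1 : Spec.map (CommRingCat.ofHom ((yPt c i d).hom : c.A →+* d.E)) ≫ c.p = d.yH.left ≫ i.left := by
    rw [← c.pts_left, pts_yPt, Over.comp_left]
  have hi : Mono i.left := inferInstance
  have h2 : Mono (Spec.map (CommRingCat.ofHom ((yPt c i d).hom : c.A →+* d.E)) ≫ c.p) := by
    rw [h1]
    exact mono_comp _ _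
  have h3 : Mono (Spec.map (CommRingCat.ofHom ((yPt c i d).hom : c.A →+* d.E))) := mono_of_mono _ c.p
  have h4 : Epi (CommRingCat.ofHom ((yPt c i d).hom : c.A →+* d.E)) := by
    constructor
    intro Z a b hab
    apply Spec.map_injective
    rw [← cancel_mono (Spec.map (CommRingCat.ofHom ((yPt c i d).hom : c.A →+* d.E))), ← Spec.map_comp,
      ← Spec.map_comp, hab]
  refine RingHom.surjective_of_epi_of_finite (CommRingCat.ofHom ((yPt c i d).hom : c.A →+* d.E)) ?_
  have h5 : (algebraMap R d.E).Finite := by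
    classical
    rw [RingHom.finite_algebraMap]
    refine ⟨⟨Finset.univ.image d.x, ?_⟩⟩
    rw [eq_top_iff]
    intro z _
    rw [← d.hx z]
    exact Submodule.sum_mem _ fun l _ => Submodule.smul_mem _ _
      (Submodule.subset_span (Finset.mem_coe.2 (Finset.mem_image_of_mem _ (Finset.mem_univ l))))
  have h6 : ((yPt c i d).hom : c.A →+* d.E).comp (algebraMap R c.A) = algebraMap R d.E :=
    (yPt c i d).hom.comp_algebraMap
  rw [← h6] at h5
  exact RingHom.Finite.of_comp_finite h5

/-- Infinitesimal points in a chart. -/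
theorem isInf_tMap {B : Type u} [CommRing B] [Algebra R B] :
    IsInf k (tMap s (Algebra.TensorProduct.includeRight : d.E →ₐ[R] B ⊗[R] d.E) ≫ d.yH) := by
  refine ⟨CommRingCat.of B, CommRingCat.ofHom (bcSection d.δ B : B ⊗[R] d.E →+* B), ?_, ?_, ?_⟩
  · intro b
    refine ⟨b ⊗ₜ 1, ?_⟩
    change bcSection d.δ B (b ⊗ₜ 1) = b
    rw [bcSection_tmul, map_one, map_one, _root_.mul_one]
  · change RingHom.ker (bcSection d.δ B) ^ k = ⊥
    rw [ker_bcSection, ← Ideal.map_pow, d.ker_pow, Ideal.map_bot]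
  · have h1 : tMap s ((bcSection d.δ B).restrictScalars R) ≫
        tMap s (Algebra.TensorProduct.includeRight : d.E →ₐ[R] B ⊗[R] d.E) ≫ d.yH =
        tMap s ((bcSection d.δ B).restrictScalars R) ≫ 1 := by
      rw [← Category.assoc, tMap_comp, comp_one]
      have h2 : ((bcSection d.δ B).restrictScalars R).comp
          (Algebra.TensorProduct.includeRight : d.E →ₐ[R] B ⊗[R] d.E) = (Algebra.ofId R B).comp d.δ := by
        ext e
        change bcSection d.δ B (1 ⊗ₜ e) = algebraMap R B (d.δ e)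
        rw [bcSection_tmul, _root_.one_mul]
      rw [h2, ← tMap_comp, Category.assoc, d.δ_comp, comp_one]
    exact congrArg (fun z => z.left) h1

theorem pts_inL {B : Type u} [CommRing B] [Algebra R B] (g : Pt R c.A B) :
    c.pts (B ⊗[R] d.E) (inL d.E g) =
      tMap s (Algebra.TensorProduct.includeLeft : B →ₐ[R] B ⊗[R] d.E) ≫ c.pts B g :=
  (c.pts_nat _ _).symm

theorem pts_yB {B : Type u} [CommRing B] [Algebra R B] :
    c.pts (B ⊗[R] d.E) (yB (yPt c i d) B) =
      tMap s (Algebra.TensorProduct.includeRight : d.E →ₐ[R] B ⊗[R] d.E) ≫ d.yH ≫ i := by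
  rw [yB, ← c.pts_nat, pts_yPt]

theorem pts_cj {B : Type u} [CommRing B] [Algebra R B] (g : Pt R c.A B) :
    c.pts (B ⊗[R] d.E) (cj (yPt c i d) g) =
      (tMap s (Algebra.TensorProduct.includeLeft : B →ₐ[R] B ⊗[R] d.E) ≫ c.pts B g) *
      ((tMap s (Algebra.TensorProduct.includeRight : d.E →ₐ[R] B ⊗[R] d.E) ≫ d.yH) ≫ i) *
      (tMap s (Algebra.TensorProduct.includeLeft : B →ₐ[R] B ⊗[R] d.E) ≫ c.pts B g)⁻¹ := by
  rw [cj, map_mul, map_mul, map_inv, pts_inL, pts_yB, Category.assoc]

variable [IsMonHom i] [Mono i]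

/-- **The infinitesimal stabiliser in a chart.** -/
theorem infStab_iff_st {B : Type u} [CommRing B] [Algebra R B] (g : Pt R c.A B) :
    InfStab i k (c.pts B g) ↔ St (yPt c i d) g := by
  constructor
  · intro h
    obtain ⟨h', hh'⟩ := h (CommRingCat.of (B ⊗[R] d.E))
      (Spec.map (CommRingCat.ofHom (algebraMap R (B ⊗[R] d.E))) ≫ s)
      (tMap s (Algebra.TensorProduct.includeLeft : B →ₐ[R] B ⊗[R] d.E))
      (tMap s (Algebra.TensorProduct.includeRight : d.E →ₐ[R] B ⊗[R] d.E) ≫ d.yH) (isInf_tMap d)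
    have h1 : IsInf k h' := (isInf_tMap d).conj i _ hh'
    obtain ⟨σ, rfl⟩ := d.lift (B ⊗[R] d.E) h' h1
    let τ : B ⊗[R] d.E →ₐ[B] B ⊗[R] d.E :=
      Algebra.TensorProduct.lift (Algebra.ofId B (B ⊗[R] d.E)) σ (fun _ _ => Commute.all _ _)
    refine ⟨τ, ?_⟩
    apply (c.pts _).injective
    rw [pts_cj, hh', ← c.pts_nat, pts_yB, ← Category.assoc (tMap s _) (tMap s _), tMap_comp, Category.assoc]
    congr 2
    ext e
    change σ e = τ (1 ⊗ₜ e)
    rw [Algebra.TensorProduct.lift_tmul, map_one, _root_.one_mul]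
  · rintro ⟨τ, hτ⟩ Q q t h hh
    obtain ⟨φ, hφ⟩ := Spec.map_surjective t.left
    have hq : q = Spec.map (CommRingCat.ofHom (φ.hom.comp (algebraMap R B))) ≫ s := by
      have h1 : t.left ≫ (tB s B).hom = q := Over.w t
      rw [← h1, ← hφ, CommRingCat.ofHom_comp, Spec.map_comp, Category.assoc]
      rfl
    let _ : Algebra R Q := (φ.hom.comp (algebraMap R B)).toAlgebra
    subst hq
    let φ' : B →ₐ[R] Q := { φ.hom with commutes' := fun r => rfl }
    have ht : t = tMap s φ' := by
      apply Over.OverMorphism.ext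
      exact hφ.symm
    subst ht
    obtain ⟨σ, rfl⟩ := d.lift Q h hh
    let θ : B ⊗[R] d.E →ₐ[R] Q := Algebra.TensorProduct.lift φ' σ (fun _ _ => Commute.all _ _)
    have h1 : θ.comp (Algebra.TensorProduct.includeLeft : B →ₐ[R] B ⊗[R] d.E) = φ' := by
      ext b
      change θ (b ⊗ₜ 1) = φ' b
      rw [Algebra.TensorProduct.lift_tmul]
      simp
    have h2 : θ.comp (Algebra.TensorProduct.includeRight : d.E →ₐ[R] B ⊗[R] d.E) = σ := by
      ext b
      change θ (1 ⊗ₜ b) = σ b
      rw [Algebra.TensorProduct.lift_tmul]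
      simp
    have h3 := congrArg (fun z => tMap s θ ≫ c.pts _ z) hτ
    simp only [pts_cj, comp_mul, GrpObj.comp_inv, ← Category.assoc, tMap_comp, h1, h2] at h3
    rw [h3, ← c.pts_nat, pts_yB]
    refine ⟨tMap s ((θ.comp (τ.restrictScalars R)).comp
      (Algebra.TensorProduct.includeRight : d.E →ₐ[R] B ⊗[R] d.E)) ≫ d.yH, ?_⟩
    simp only [← Category.assoc, tMap_comp]
    rfl

end Groth.Agent.RedSub.H672.InfBridge
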