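import Groth.Agent.Sga3C.CWFam

/-!
# Testing a condition on infinitesimal neighbourhoods of a section

`Y ⟶ X` a monomorphism locally of finite presentation, `X` smooth over `S` with a section factoring
through `Y`.  If all the infinitesimal neighbourhoods of the section factor through `Y`, then an étale
neighbourhood of the section does.
-/

set_option autoImplicit false

open CategoryTheory AlgebraicGeometry TopologicalSpace Opposite Limits TensorProduct
  Groth.Agent.Sga3C.CWGlue Groth.Agent.Sga3C.CWSch Groth.Agent.Sga3C.CWMain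
  Groth.Agent.Sga3C.CWUnram Groth.Agent.Sga3C.CWSection Groth.Agent.Sga3C.CWMono

universe u

namespace Groth.Agent.RedSub.H672.InfChart

variable {S X Y : Scheme.{u}} {f : X ⟶ S} {j : Y ⟶ X} {e' : S ⟶ Y}

/-- Variant of `Chart.eq_zero_of_cond` with the lift of the infinitesimal neighbourhood as hypothesis. -/
theorem eq_zero_of_lift (c : Chart f j e') [Mono j] {D Q : CommRingCat.{u}} (ψ : Γ(S, c.V) ⟶ D)
    (β : c.B' ⟶ Q) (π : Q ⟶ D)
    (hu : ∃ u : Spec Q ⟶ Y, u ≫ j = Spec.map (c.b ≫ β) ≫ c.hU.fromSpec)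
    (hπs : Function.Surjective π.hom)
    (hπ : IsNilpotent (RingHom.ker π.hom)) (h1 : β ≫ π = c.φ ≫ c.δ ≫ ψ) (x : c.B')
    (hx : x ∈ RingHom.ker c.φ.hom) : β.hom x = 0 := by
  have := c.open1
  obtain ⟨u, huj⟩ := hu
  have hπu : Spec.map π ≫ u = Spec.map (c.δ ≫ ψ) ≫ c.ι1 := by
    rw [← cancel_mono j, Category.assoc, Category.assoc, huj, c.w, ← Spec.map_comp_assoc,
      ← Spec.map_comp_assoc, Category.assoc, Category.assoc, h1]
  have hsurj : Function.Surjective (Spec.map π) := surjective_comap π.hom hπs hπ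
  have hrange : Set.range u ⊆ Set.range c.ι1 := by
    rintro _ ⟨z, rfl⟩
    obtain ⟨z', rfl⟩ := hsurj z
    rw [← Scheme.Hom.comp_apply, hπu, Scheme.Hom.comp_apply]
    exact ⟨_, rfl⟩
  let v : Spec Q ⟶ Spec c.C1 := IsOpenImmersion.lift c.ι1 u hrange
  have hv : v ≫ c.ι1 = u := IsOpenImmersion.lift_fac _ _ _
  let σ : c.C1 ⟶ Q := Spec.preimage v
  have hσv : Spec.map σ = v := Spec.map_preimage v
  have hσπ : σ ≫ π = c.δ ≫ ψ := by
    apply Spec.map_injective
    rw [← cancel_mono c.ι1, Spec.map_comp, Category.assoc, hσv, hv, hπu]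
  have hbσ : c.b ≫ c.φ ≫ σ = c.b ≫ β := by
    apply Spec.map_injective
    rw [← cancel_mono c.hU.fromSpec, ← huj, ← hv, Category.assoc, c.w, ← hσv,
      ← Spec.map_comp_assoc, Category.assoc]
  let _ : Algebra Γ(X, c.U) c.B' := c.b.hom.toAlgebra
  have het : Algebra.Etale Γ(X, c.U) c.B' := c.etale
  have h5 : β.hom = (c.φ ≫ σ).hom := by
    refine ringHom_eq_of_unramified (B := Γ(X, c.U)) (B' := c.B') β.hom (c.φ ≫ σ).hom π.hom hπ ?_ ?_
    · have := congrArg CommRingCat.Hom.hom hbσ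
      exact this.symm
    · have h6 : β ≫ π = (c.φ ≫ σ) ≫ π := by
        rw [Category.assoc, hσπ, h1]
      exact congrArg CommRingCat.Hom.hom h6
  rw [h5]
  change σ.hom (c.φ.hom x) = 0
  rw [RingHom.mem_ker] at hx
  rw [hx, map_zero]

/-- If the infinitesimal neighbourhoods of the section lift to `Y`, then the condition holds. -/
theorem cond_of_inf (c : Chart f j e') [Smooth f] [Mono j]
    (hs : (e' ≫ j) ≫ f = 𝟙 S)
    (hgrp : ∀ (T : Scheme.{u}) (g : T ⟶ S) (W : Scheme.{u}) (w : W ⟶ pullback f g),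
      Flat w → LocallyOfFinitePresentation w → (∀ t : T, ∃ z, (w ≫ pullback.snd f g) z = t) →
      ∀ (c : W ⟶ Y), c ≫ j = w ≫ pullback.fst f g → Cond f j g)
    (hinf : ∀ (Q D : CommRingCat.{u}) (π : Q ⟶ D), Function.Surjective π.hom →
      IsNilpotent (RingHom.ker π.hom) → ∀ u : Spec Q ⟶ X,
      Spec.map π ≫ u = Spec.map π ≫ u ≫ f ≫ e' ≫ j → ∃ v : Spec Q ⟶ Y, v ≫ j = u) :
    Cond f j c.hV.fromSpec := by
  have hsm0 : c.b0.hom.Smooth := by
    have h1 : (f.appLE c.V0 c.U c.le).hom.Smooth := f.smooth_appLE c.hV0 c.hU c.le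
    have h2 : c.b.hom.Smooth := by
      have := c.etale
      algebraize [c.b.hom]
      exact (inferInstance : Algebra.Smooth Γ(X, c.U) c.B')
    exact RingHom.Smooth.comp h1 h2
  let _ : Algebra Γ(S, c.V0) c.B' := c.b0.hom.toAlgebra
  let _ : Algebra Γ(S, c.V0) Γ(S, c.V) := c.res.hom.toAlgebra
  have hsm : Algebra.Smooth Γ(S, c.V0) c.B' := hsm0
  let E := Γ(S, c.V) ⊗[Γ(S, c.V0)] c.B'
  let δ' : c.B' →ₐ[Γ(S, c.V0)] Γ(S, c.V) :=
    { (c.φ ≫ c.δ).hom with
      commutes' := fun r => congrArg (fun h => h.hom r) (c.b0_comp hs) }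
  let ε : E →ₐ[Γ(S, c.V)] Γ(S, c.V) :=
    Algebra.TensorProduct.lift (AlgHom.id _ _) δ' (fun _ _ => Commute.all _ _)
  let i1 : c.B' →+* E := (Algebra.TensorProduct.includeRight : c.B' →ₐ[Γ(S, c.V0)] E)
  obtain ⟨K, hKfg, hK⟩ := exists_locus ε ((RingHom.ker c.φ.hom).map i1) (c.fg.map i1)
  let D : CommRingCat.{u} := Γ(S, c.V)
  let ψ : Γ(S, c.V) ⟶ D := 𝟙 _
  have hψ : Spec.map ψ ≫ c.hV.fromSpec = c.hV.fromSpec := by
    rw [Spec.map_id, Category.id_comp]
  rw [← hψ]
  obtain ⟨hK1, hK2⟩ := hK D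
  let Q := D ⊗[Γ(S, c.V)] E
  let I' : Ideal Q := RingHom.ker (bcSection ε D)
  let r1 : E →+* Q := (Algebra.TensorProduct.includeRight : E →ₐ[Γ(S, c.V)] Q)
  let dQ : D ⟶ CommRingCat.of Q :=
    CommRingCat.ofHom (Algebra.TensorProduct.includeLeftRingHom : D →+* Q)
  let βQ : c.B' ⟶ CommRingCat.of Q := CommRingCat.ofHom (r1.comp i1)
  have hpo1 : IsPushout c.res c.b0 (CommRingCat.ofHom
      (Algebra.TensorProduct.includeLeftRingHom : Γ(S, c.V) →+* E)) (CommRingCat.ofHom i1) :=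
    CommRingCat.isPushout_tensorProduct Γ(S, c.V0) Γ(S, c.V) c.B'
  have hpo2 : IsPushout ψ (CommRingCat.ofHom
      (Algebra.TensorProduct.includeLeftRingHom : Γ(S, c.V) →+* E)) dQ (CommRingCat.ofHom r1) :=
    CommRingCat.isPushout_tensorProduct Γ(S, c.V) D E
  have hpo : IsPushout (c.res ≫ ψ) c.b0 dQ βQ := hpo1.paste_horiz hpo2
  have hβε : ∀ x : c.B', bcSection ε D (βQ.hom x) = ψ.hom (c.δ.hom (c.φ.hom x)) := by
    intro x
    have h1 : βQ.hom x = (1 : D) ⊗ₜ[Γ(S, c.V)] ((1 : Γ(S, c.V)) ⊗ₜ[Γ(S, c.V0)] x) := rfl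
    rw [h1, bcSection_tmul, one_mul]
    have h2 : ε ((1 : Γ(S, c.V)) ⊗ₜ[Γ(S, c.V0)] x) = c.δ.hom (c.φ.hom x) := by
      rw [Algebra.TensorProduct.lift_tmul, map_one, one_mul]
      rfl
    rw [h2]
    rfl
  have hdε : ∀ y : D, bcSection ε D (dQ.hom y) = y := by
    intro y
    have h1 : dQ.hom y = algebraMap D Q y := rfl
    rw [h1, AlgHom.commutes]
    rfl
  have hKD : K.map (algebraMap Γ(S, c.V) D) = ⊥ := by
    refine hK2.2 ?_
    intro n
    have hmain : ∀ x ∈ RingHom.ker c.φ.hom, r1 (i1 x) ∈ I' ^ n := by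
      intro x hx
      rcases Nat.eq_zero_or_pos n with rfl | hn
      · exact mem_pow_zero _ _
      · let mk : CommRingCat.of Q ⟶ CommRingCat.of (Q ⧸ I' ^ n) :=
          CommRingCat.ofHom (Ideal.Quotient.mk (I' ^ n))
        let π : CommRingCat.of (Q ⧸ I' ^ n) ⟶ D :=
          CommRingCat.ofHom (Ideal.Quotient.lift (I' ^ n) (bcSection ε D : Q →+* D)
            (fun y hy => Ideal.pow_le_self hn.ne' hy))
        have h0 : c.b0 ≫ βQ ≫ mk = c.res ≫ ψ ≫ dQ ≫ mk := by
          have := hpo.w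
          rw [← Category.assoc c.b0, ← this]
          simp only [Category.assoc]
        have hπs : Function.Surjective π.hom := by
          intro y
          refine ⟨(dQ ≫ mk).hom y, ?_⟩
          exact hdε y
        have hπn : IsNilpotent (RingHom.ker π.hom) :=
          isNilpotent_ker_lift (bcSection ε D : Q →+* D) n _
        have h1 : (βQ ≫ mk) ≫ π = c.φ ≫ c.δ ≫ ψ := by
          ext y
          exact hβε y
        have hdπ : (dQ ≫ mk) ≫ π = 𝟙 D := by
          ext y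
          exact hdε y
        have hu : ∃ u : Spec (CommRingCat.of (Q ⧸ I' ^ n)) ⟶ Y,
            u ≫ j = Spec.map (c.b ≫ βQ ≫ mk) ≫ c.hU.fromSpec := by
          refine hinf _ _ π hπs hπn _ ?_
          have e1 : Spec.map π ≫ Spec.map (c.b ≫ βQ ≫ mk) ≫ c.hU.fromSpec =
              c.hV.fromSpec ≫ e' ≫ j := by
            rw [← Spec.map_comp_assoc]
            have e2 : (c.b ≫ βQ ≫ mk) ≫ π = (c.b ≫ c.φ) ≫ c.δ ≫ ψ := by
              rw [Category.assoc, h1]
              simp only [Category.assoc]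
            rw [e2, Spec.map_comp, Category.assoc, ← c.w, ← Category.assoc (Spec.map (c.δ ≫ ψ))]
            have e3 : Spec.map (c.δ ≫ ψ) ≫ c.ι1 = c.hV.fromSpec ≫ e' := by
              rw [Category.comp_id, c.hδ]
            rw [e3, Category.assoc]
          have e4 : Spec.map π ≫ (Spec.map (c.b ≫ βQ ≫ mk) ≫ c.hU.fromSpec) ≫ f =
              c.hV.fromSpec := by
            rw [← Category.assoc, e1, Category.assoc, hs, Category.comp_id]
          have e5 := congrArg (· ≫ e' ≫ j) e4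
          simp only [Category.assoc] at e5 e1 ⊢
          rw [e1, e5]
        have h2 := eq_zero_of_lift c ψ (βQ ≫ mk) π hu hπs hπn h1 x hx
        exact Ideal.Quotient.eq_zero_iff_mem.1 h2
    have hle : (RingHom.ker c.φ.hom).map i1 ≤ (I' ^ n).comap r1 := by
      rw [Ideal.map_le_iff_le_comap]
      exact hmain
    exact fun x hx => hle hx
  obtain ⟨a, ha, hax⟩ := hK1.1 hKD
  let L := Localization.Away (1 - a)
  let lQ : CommRingCat.of Q ⟶ CommRingCat.of L := CommRingCat.ofHom (algebraMap Q L)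
  have hker : ∀ x ∈ RingHom.ker c.φ.hom, (βQ ≫ lQ).hom x = 0 := by
    intro x hx
    have h1 := hax (i1 x) (Ideal.mem_map_of_mem i1 hx)
    have h2 : algebraMap Q L ((1 - a) * r1 (i1 x)) = 0 := by
      have h3 : (1 - a) * r1 (i1 x) = 0 := h1
      rw [h3, map_zero]
    rw [map_mul] at h2
    exact ((IsLocalization.Away.algebraMap_isUnit (S := L) (1 - a)).mul_right_eq_zero).1 h2
  obtain ⟨σ, hσ⟩ := exists_factor c.φ.hom c.surj (βQ ≫ lQ).hom hker
  obtain ⟨wQ, hw1, hw2, hw3⟩ := c.exists_etale ψ βQ dQ hpo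
  have hlQ : IsOpenImmersion (Spec.map lQ) :=
    IsOpenImmersion.of_isLocalization (R := Q) (S := L) (1 - a)
  let w : Spec (CommRingCat.of L) ⟶ pullback f (Spec.map ψ ≫ c.hV.fromSpec) := Spec.map lQ ≫ wQ
  have hwet : Etale w := inferInstance
  let σ' : c.C1 ⟶ CommRingCat.of L := CommRingCat.ofHom σ
  have hσ' : c.φ ≫ σ' = βQ ≫ lQ := by
    ext x
    exact RingHom.congr_fun hσ x
  refine hgrp _ _ (Spec (CommRingCat.of L)) w inferInstance inferInstance ?_
    (Spec.map σ' ≫ c.ι1) ?_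
  · intro t
    let εL : L →+* D := IsLocalization.Away.lift (S := L) (1 - a) (g := (bcSection ε D : Q →+* D))
      (by
        have h1 : bcSection ε D a = 0 := ha
        have h2 : (bcSection ε D : Q →+* D) (1 - a) = 1 := by
          change bcSection ε D (1 - a) = 1
          rw [map_sub, map_one, h1, sub_zero]
        rw [h2]
        exact isUnit_one)
    let εL' : CommRingCat.of L ⟶ D := CommRingCat.ofHom εL
    have h1 : (dQ ≫ lQ) ≫ εL' = 𝟙 D := by
      ext y
      have h2 : εL (algebraMap Q L (dQ.hom y)) = bcSection ε D (dQ.hom y) :=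
        IsLocalization.Away.lift_eq (S := L) (1 - a) _ _
      exact h2.trans (hdε y)
    have h3 : w ≫ pullback.snd f (Spec.map ψ ≫ c.hV.fromSpec) = Spec.map (dQ ≫ lQ) := by
      rw [Category.assoc, hw2, ← Spec.map_comp]
    refine ⟨Spec.map εL' t, ?_⟩
    rw [h3, ← Scheme.Hom.comp_apply, ← Spec.map_comp, h1, Spec.map_id]
    rfl
  · rw [Category.assoc, c.w, ← Spec.map_comp_assoc, Category.assoc, hσ', Category.assoc, hw1,
      ← Spec.map_comp_assoc, Category.assoc]

end Groth.Agent.RedSub.H672.InfChart
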