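import Groth.Agent.RedSub.H672.InfNorm
import Groth.Agent.Sga3B.PinModel
import Groth.Agent.Sga3C.CWCoords

/-!
# The universal infinitesimal point of a smooth group scheme

`Data s H k`: over `s : Spec R ⟶ S` an `R`-algebra `E`, finite projective as an `R`-module (with a dual basis),
and a point `yH` of `H` with values in `E` such that every infinitesimal point of order `k` of `H`
over an `R`-algebra comes from `yH`.
-/

set_option autoImplicit false

open CategoryTheory Limits MonoidalCategory CartesianMonoidalCategory MonObj GrpObj AlgebraicGeometry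

universe u

namespace Groth.Agent.RedSub.H672.InfData

open Groth.Agent.Sga3B Groth.Agent.Sga3B.PinMod Groth.Agent.RedSub.H672.InfNorm

variable {S : Scheme.{u}}

/-- The universal infinitesimal point of order `k` over `s`. -/
structure Data {R : Type u} [CommRing R] (s : Spec (CommRingCat.of R) ⟶ S) (H : Over S) [GrpObj H]
    (k : ℕ) where
  /-- the coordinate ring of the infinitesimal neighbourhood -/
  E : Type u
  [ring : CommRing E]
  [alg : Algebra R E]
  /-- the universal point -/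
  yH : tB s E ⟶ H
  mono : Mono yH.left
  /-- the unit section -/
  δ : E →ₐ[R] R
  ker_pow : RingHom.ker δ ^ k = ⊥
  δ_comp : tMap s δ ≫ yH = 1
  /-- the number of elements of the dual basis -/
  m : ℕ
  /-- the forms of the dual basis -/
  lam : Fin m → E →ₗ[R] R
  /-- the elements of the dual basis -/
  x : Fin m → E
  hx : ∀ z : E, ∑ i, lam i z • x i = z
  lift : ∀ (Q : Type u) [CommRing Q] [Algebra R Q] (h : tB s Q ⟶ H), IsInf k h →
    ∃ σ : E →ₐ[R] Q, h = tMap s σ ≫ yH

attribute [instance] Data.ring Data.alg Data.mono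

theorem one_left {H : Over S} [GrpObj H] (X : Over S) : (1 : X ⟶ H).left = X.hom ≫ η[H].left := by
  rw [Hom.one_def]
  rfl

/-- Affine neighbourhoods of a section. -/
theorem exists_nhd {X S : Scheme.{u}} (f : X ⟶ S) (e : S ⟶ X) (he : e ≫ f = 𝟙 S) (s : S) :
    ∃ (V : S.Opens) (U : X.Opens) (hUV : U ≤ f ⁻¹ᵁ V) (hVU : V ≤ e ⁻¹ᵁ U),
      s ∈ V ∧ IsAffineOpen V ∧ IsAffineOpen U := by
  have hfs : f (e s) = s := by
    rw [← Scheme.Hom.comp_apply, he]
    rfl
  obtain ⟨V0, hV0, hsV0, -⟩ := exists_isAffineOpen_mem_and_subset (U := (⊤ : S.Opens)) (x := s) trivial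
  obtain ⟨U, hU, hsU, hUV⟩ := exists_isAffineOpen_mem_and_subset (U := f ⁻¹ᵁ V0) (x := e s) (by
    change f (e s) ∈ V0
    rwa [hfs])
  have hUV' : U ≤ f ⁻¹ᵁ V0 := hUV
  obtain ⟨a, ha, hsa⟩ := hV0.exists_basicOpen_le (V := e ⁻¹ᵁ U) ⟨s, hsU⟩ hsV0
  have hle : S.basicOpen a ≤ V0 := S.basicOpen_le a
  have h1 : X.basicOpen (f.appLE V0 U hUV' a) = U ⊓ f ⁻¹ᵁ S.basicOpen a := by
    rw [Scheme.basicOpen_appLE]
  refine ⟨S.basicOpen a, X.basicOpen (f.appLE V0 U hUV' a), ?_, ?_, hsa, hV0.basicOpen a, hU.basicOpen _⟩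
  · rw [h1]
    exact inf_le_right
  · rw [h1]
    intro z hz
    refine ⟨ha hz, ?_⟩
    change f (e z) ∈ S.basicOpen a
    rwa [← Scheme.Hom.comp_apply, he]

section Constr

variable {R : Type u} [CommRing R] (s : Spec (CommRingCat.of R) ⟶ S) [Mono s] (H : Over S) [GrpObj H]
  {D : Type u} [CommRing D] [Algebra R D] [Algebra.Smooth R D] (j : Spec (CommRingCat.of D) ⟶ H.left)
  [IsOpenImmersion j] (hj : j ≫ H.hom = Spec.map (CommRingCat.ofHom (algebraMap R D)) ≫ s)
  (δ₀ : D →ₐ[R] R) (hδ₀ : Spec.map (CommRingCat.ofHom (δ₀ : D →+* R)) ≫ j = s ≫ η[H].left)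

include hj hδ₀ in
theorem nonempty_infData {k : ℕ} (hk : k ≠ 0) : Nonempty (Data s H k) := by
  let I : Ideal D := RingHom.ker δ₀
  let E := D ⧸ I ^ k
  obtain ⟨κ, _, lam, e, h1, h2⟩ := Groth.Agent.Sga3C.CWCoords.exists_coords (A := R) (E := D) δ₀ k
  let q : D →ₐ[R] E := Ideal.Quotient.mkₐ R (I ^ k)
  have hq : Function.Surjective q := Ideal.Quotient.mkₐ_surjective R _
  let yH : tB s E ⟶ H := Over.homMk (Spec.map (CommRingCat.ofHom (q : D →+* E)) ≫ j) (by
    rw [Category.assoc, hj, ← Category.assoc, ← Spec.map_comp, ← CommRingCat.ofHom_comp, AlgHom.comp_algebraMap]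
    rfl)
  have hyH : yH.left = Spec.map (CommRingCat.ofHom (q : D →+* E)) ≫ j := rfl
  have hI : ∀ a ∈ I ^ k, δ₀ a = 0 := fun a ha => Ideal.pow_le_self hk ha
  let δ : E →ₐ[R] R := Ideal.Quotient.liftₐ (I ^ k) δ₀ hI
  have hδq : ∀ a, δ (q a) = δ₀ a := fun a => rfl
  have hker : RingHom.ker δ = I.map (Ideal.Quotient.mk (I ^ k)) := by
    apply le_antisymm
    · intro z hz
      obtain ⟨a, rfl⟩ := hq z
      exact Ideal.mem_map_of_mem _ hz
    · rw [Ideal.map_le_iff_le_comap]
      intro a ha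
      exact ha
  let r := Fintype.equivFin κ
  refine ⟨⟨E, yH, ?_, δ, ?_, ?_, Fintype.card κ, fun i =>
    (Submodule.liftQ ((I ^ k).restrictScalars R) (lam (r.symm i)) (fun z hz => h1 _ z hz)) ∘ₗ
      (Submodule.Quotient.restrictScalarsEquiv R (I ^ k)).symm.toLinearMap, fun i => q (e (r.symm i)), ?_, ?_⟩⟩
  · rw [hyH]
    have : IsClosedImmersion (Spec.map (CommRingCat.ofHom (q : D →+* E))) :=
      IsClosedImmersion.spec_of_surjective _ hq
    exact mono_comp _ _
  · rw [hker, ← Ideal.map_pow, Ideal.map_quotient_self]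
  · apply Over.OverMorphism.ext
    rw [one_left, Over.comp_left, tMap_left, hyH, ← Category.assoc, ← Spec.map_comp, ← CommRingCat.ofHom_comp]
    have h3 : (δ : E →+* R).comp (q : D →+* E) = (δ₀ : D →+* R) := rfl
    rw [h3, hδ₀]
    have h4 : (tB s R).hom = s := by
      change Spec.map (CommRingCat.ofHom (algebraMap R R)) ≫ s = s
      have h5 : CommRingCat.ofHom (algebraMap R R) = 𝟙 (CommRingCat.of R) := rfl
      rw [h5, Spec.map_id, Category.id_comp]
    rw [h4]
  · intro z
    obtain ⟨f, rfl⟩ := hq z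
    have h3 := h2 f
    have h4 : q f - ∑ i, lam i f • q (e i) = 0 := by
      have h5 : q (f - ∑ i, lam i f • e i) = 0 := Ideal.Quotient.eq_zero_iff_mem.2 h3
      rw [map_sub, map_sum] at h5
      simpa only [map_smul] using h5
    rw [sub_eq_zero] at h4
    conv_rhs => rw [h4]
    exact Fintype.sum_equiv r.symm _ _ fun i => rfl
  · intro Q _ _ h hh
    obtain ⟨D', π, hπ1, hπ2, hπ3⟩ := hh
    have hs : Function.Surjective (Spec.map π).base := by
      intro z
      have h3 : (z : PrimeSpectrum Q) ∈ Set.range (PrimeSpectrum.comap π.hom) := by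
        rw [_root_.range_comap_of_surjective _ _ hπ1]
        intro a ha
        have h4 : a ^ k ∈ (RingHom.ker π.hom) ^ k := Ideal.pow_mem_pow ha k
        rw [hπ2, Ideal.mem_bot] at h4
        exact z.isPrime.mem_of_pow_mem k (by rw [h4]; exact zero_mem _)
      exact h3
    have h10 : (1 : tB s Q ⟶ H).left = Spec.map (CommRingCat.ofHom (algebraMap R Q)) ≫
        Spec.map (CommRingCat.ofHom (δ₀ : D →+* R)) ≫ j := by
      rw [one_left, hδ₀, ← Category.assoc]
      rfl
    have hr : Set.range h.left ⊆ Set.range j := by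
      rintro _ ⟨z, rfl⟩
      obtain ⟨z', rfl⟩ := hs z
      change (h.left) ((Spec.map π) z') ∈ _
      rw [← Scheme.Hom.comp_apply, hπ3, h10]
      exact ⟨(Spec.map π ≫ Spec.map (CommRingCat.ofHom (algebraMap R Q)) ≫
        Spec.map (CommRingCat.ofHom (δ₀ : D →+* R))) z', by
          rw [← Scheme.Hom.comp_apply]
          simp only [Category.assoc]⟩
    obtain ⟨φ, hφ⟩ := Spec.map_surjective (IsOpenImmersion.lift j h.left hr)
    have hφj : Spec.map φ ≫ j = h.left := by
      rw [hφ, IsOpenImmersion.lift_fac]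
    have hφR : (φ.hom).comp (algebraMap R D) = algebraMap R Q := by
      have h3 : Spec.map (CommRingCat.ofHom (algebraMap R Q)) ≫ s =
          Spec.map (CommRingCat.ofHom (φ.hom.comp (algebraMap R D))) ≫ s := by
        rw [CommRingCat.ofHom_comp, Spec.map_comp, Category.assoc, ← hj, CommRingCat.ofHom_hom, ← Category.assoc,
          hφj, Over.w h]
        rfl
      rw [cancel_mono] at h3
      have h4 := Spec.map_injective h3
      exact (congrArg CommRingCat.Hom.hom h4).symm
    let φ' : D →ₐ[R] Q := { φ.hom with commutes' := fun r => congrArg (fun f : R →+* Q => f r) hφR }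
    have hφ' : ∀ a ∈ I, π.hom (φ' a) = 0 := by
      intro a ha
      have h3 : Spec.map π ≫ Spec.map φ = Spec.map π ≫ Spec.map (CommRingCat.ofHom (algebraMap R Q)) ≫
          Spec.map (CommRingCat.ofHom (δ₀ : D →+* R)) := by
        rw [← cancel_mono j]
        simp only [Category.assoc]
        rw [hφj, hπ3, h10]
      rw [← Spec.map_comp, ← Spec.map_comp, ← Spec.map_comp] at h3
      have h4 := Spec.map_injective h3
      have h5 : π.hom (φ.hom a) = π.hom (algebraMap R Q (δ₀ a)) :=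
        congrArg (fun f => CommRingCat.Hom.hom f a) h4
      change π.hom (φ.hom a) = 0
      rw [h5]
      have h6 : δ₀ a = 0 := ha
      rw [h6, map_zero, map_zero]
    have hφI : ∀ a ∈ I ^ k, φ' a = 0 := by
      intro a ha
      have h3 : (I ^ k).map (φ' : D →+* Q) ≤ (RingHom.ker π.hom) ^ k := by
        rw [Ideal.map_pow]
        apply Ideal.pow_right_mono
        rw [Ideal.map_le_iff_le_comap]
        exact hφ'
      have h4 := h3 (Ideal.mem_map_of_mem (φ' : D →+* Q) ha)
      rw [hπ2] at h4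
      exact h4
    refine ⟨Ideal.Quotient.liftₐ (I ^ k) φ' hφI, ?_⟩
    apply Over.OverMorphism.ext
    rw [Over.comp_left, tMap_left, hyH, ← Category.assoc, ← Spec.map_comp, ← CommRingCat.ofHom_comp, ← hφj]
    congr 1

end Constr

/-- **Existence of universal infinitesimal points.** -/
theorem exists_infData (H : Over S) [GrpObj H] [Smooth H.hom] (x : S) :
    ∃ (V : S.Opens) (hV : IsAffineOpen V), x ∈ V ∧
      ∀ k ≠ 0, Nonempty (Data (R := Γ(S, V)) hV.fromSpec H k) := by
  have he : η[H].left ≫ H.hom = 𝟙 S := Over.w η[H]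
  obtain ⟨V, U, hUV, hVU, hx, hV, hU⟩ := exists_nhd H.hom η[H].left he x
  refine ⟨V, hV, hx, fun k hk => ?_⟩
  let ρ : Γ(S, V) ⟶ Γ(H.left, U) := H.hom.appLE V U hUV
  let δ : Γ(H.left, U) ⟶ Γ(S, V) := Scheme.Hom.appLE (η[H].left) U V hVU
  have h1 : Spec.map ρ ≫ hV.fromSpec = hU.fromSpec ≫ H.hom := hV.SpecMap_appLE_fromSpec H.hom hU hUV
  have h2 : Spec.map δ ≫ hU.fromSpec = hV.fromSpec ≫ η[H].left := hU.SpecMap_appLE_fromSpec η[H].left hV hVU
  have h3 : ρ ≫ δ = 𝟙 _ := by
    apply Spec.map_injective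
    rw [← cancel_mono hV.fromSpec, Spec.map_comp, Category.assoc, h1, ← Category.assoc, h2, Category.assoc, he]
    simp
  algebraize [ρ.hom]
  have hsm : Algebra.Smooth Γ(S, V) Γ(H.left, U) := H.hom.smooth_appLE hV hU hUV
  let δ' : Γ(H.left, U) →ₐ[Γ(S, V)] Γ(S, V) := { δ.hom with
    commutes' := fun r => congrArg (fun f => CommRingCat.Hom.hom f r) h3 }
  exact nonempty_infData (R := Γ(S, V)) hV.fromSpec H (D := Γ(H.left, U)) hU.fromSpec h1.symm δ' h2 hk

end Groth.Agent.RedSub.H672.InfData
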