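import Groth.Agent.RedSub.H672.InfChart

/-!
# Normalising a smooth subgroup can be tested on infinitesimal points

`IsInf k h`: the `Q`-valued point `h` of `H` is the unit modulo an ideal of `Q` of `k`-th power zero.
`InfStab i k g`: conjugation by `g` carries the infinitesimal points of order `k` of `H` to points of `H`.

Main result `exists_conj_of_infStab`: if `InfStab i k g` for all `k`, `H` smooth with (geometrically) connected
fibres, then conjugation by `g` carries `H` to `H`.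
-/

set_option autoImplicit false

open CategoryTheory Limits MonoidalCategory CartesianMonoidalCategory MonObj GrpObj
  AlgebraicGeometry Groth.Agent.Sga3C.CWMain Groth.Agent.Sga3C.CWGroup Groth.Agent.Sga3C.CWFam

universe u

namespace Groth.Agent.RedSub.H672.InfNorm

variable {S : Scheme.{u}} {G H : Over S} [GrpObj G] [GrpObj H]

/-- `h` is an infinitesimal point of order `k`: it is the unit modulo an ideal of `k`-th power zero. -/
def IsInf (k : ℕ) {Q : CommRingCat.{u}} {q : Spec Q ⟶ S} (h : Over.mk q ⟶ H) : Prop :=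
  ∃ (D : CommRingCat.{u}) (π : Q ⟶ D), Function.Surjective π.hom ∧ (RingHom.ker π.hom) ^ k = ⊥ ∧
    Spec.map π ≫ h.left = Spec.map π ≫ (1 : Over.mk q ⟶ H).left

theorem IsInf.mono {k l : ℕ} (hkl : k ≤ l) {Q : CommRingCat.{u}} {q : Spec Q ⟶ S} {h : Over.mk q ⟶ H}
    (hh : IsInf k h) : IsInf l h := by
  obtain ⟨D, π, h1, h2, h3⟩ := hh
  refine ⟨D, π, h1, ?_, h3⟩
  rw [eq_bot_iff, ← h2]
  exact Ideal.pow_le_pow_right hkl

/-- Conjugation by `g` carries the infinitesimal points of order `k` of `H` to points of `H`. -/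
def InfStab (i : H ⟶ G) (k : ℕ) {T : Over S} (g : T ⟶ G) : Prop :=
  ∀ (Q : CommRingCat.{u}) (q : Spec Q ⟶ S) (t : Over.mk q ⟶ T) (h : Over.mk q ⟶ H), IsInf k h →
    ∃ h' : Over.mk q ⟶ H, (t ≫ g) * (h ≫ i) * (t ≫ g)⁻¹ = h' ≫ i

variable (i : H ⟶ G)

theorem InfStab.le {k l : ℕ} (hkl : k ≤ l) {T : Over S} {g : T ⟶ G} (hg : InfStab i l g) :
    InfStab i k g := fun Q q t h hh => hg Q q t h (hh.mono hkl)

theorem InfStab.comp {k : ℕ} {T T' : Over S} {g : T ⟶ G} (hg : InfStab i k g) (t : T' ⟶ T) :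
    InfStab i k (t ≫ g) := fun Q q t' h hh => by
  simpa only [Category.assoc] using hg Q q (t' ≫ t) h hh

omit [GrpObj H] in
theorem comp_left_eq {Q D : CommRingCat.{u}} {q : Spec Q ⟶ S} (π : Q ⟶ D) {X : Over S}
    {a b : Over.mk q ⟶ X} (h : Spec.map π ≫ a.left = Spec.map π ≫ b.left) :
    (Over.homMk (Spec.map π) : Over.mk (Spec.map π ≫ q) ⟶ Over.mk q) ≫ a =
      (Over.homMk (Spec.map π) : Over.mk (Spec.map π ≫ q) ⟶ Over.mk q) ≫ b := by
  apply Over.OverMorphism.ext
  exact h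

omit [GrpObj H] in
theorem left_eq_of_comp {Q D : CommRingCat.{u}} {q : Spec Q ⟶ S} (π : Q ⟶ D) {X : Over S}
    {a b : Over.mk q ⟶ X} (h : (Over.homMk (Spec.map π) : Over.mk (Spec.map π ≫ q) ⟶ Over.mk q) ≫ a =
      (Over.homMk (Spec.map π) : Over.mk (Spec.map π ≫ q) ⟶ Over.mk q) ≫ b) :
    Spec.map π ≫ a.left = Spec.map π ≫ b.left :=
  congrArg (fun z => z.left) h

/-- The conjugate of an infinitesimal point of `H` which lies in `H` is infinitesimal. -/
theorem IsInf.conj [IsMonHom i] [Mono i] {k : ℕ} {Q : CommRingCat.{u}} {q : Spec Q ⟶ S} {h h' : Over.mk q ⟶ H}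
    (hh : IsInf k h) (g : Over.mk q ⟶ G) (hg : g * (h ≫ i) * g⁻¹ = h' ≫ i) : IsInf k h' := by
  obtain ⟨D, π, h1, h2, h3⟩ := hh
  refine ⟨D, π, h1, h2, left_eq_of_comp π ?_⟩
  rw [← cancel_mono i]
  have h4 := comp_left_eq π h3
  have h5 := congrArg (fun z => (Over.homMk (Spec.map π) : Over.mk (Spec.map π ≫ q) ⟶ Over.mk q) ≫ z) hg
  simp only [comp_mul, GrpObj.comp_inv] at h5
  rw [Category.assoc, ← h5, ← Category.assoc, h4, Category.assoc, one_comp, comp_one, _root_.mul_one,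
    mul_inv_cancel]

theorem InfStab.mul [IsMonHom i] [Mono i] {k : ℕ} {T : Over S} {g g' : T ⟶ G} (hg : InfStab i k g)
    (hg' : InfStab i k g') : InfStab i k (g * g') := by
  intro Q q t h hh
  obtain ⟨h', hh'⟩ := hg' Q q t h hh
  obtain ⟨h'', hh''⟩ := hg Q q t h' (hh.conj i (t ≫ g') hh')
  refine ⟨h'', ?_⟩
  rw [← hh'', ← hh', comp_mul]
  group

theorem infStab_of_conj {k : ℕ} {T : Over S} {g : T ⟶ G}
    (hg : ∀ (T' : Over S) (t : T' ⟶ T) (h : T' ⟶ H), ∃ h' : T' ⟶ H, (t ≫ g) * (h ≫ i) * (t ≫ g)⁻¹ = h' ≫ i) :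
    InfStab i k g := fun _ _ t h _ => hg _ t h

/-- The conjugation family. -/
noncomputable def conjFam {T : Over S} (g : T ⟶ G) : T ⊗ H ⟶ G :=
  (fst T H ≫ g) * (snd T H ≫ i) * (fst T H ≫ g)⁻¹

omit [GrpObj H] in
theorem lift_conjFam {T U : Over S} (g : T ⟶ G) (t : U ⟶ T) (a : U ⟶ H) :
    lift t a ≫ conjFam i g = (t ≫ g) * (a ≫ i) * (t ≫ g)⁻¹ := by
  simp only [conjFam, comp_mul, GrpObj.comp_inv, lift_fst_assoc, lift_snd_assoc]

theorem isMul_conjFam [IsMonHom i] {T : Over S} (g : T ⟶ G) : IsMul (conjFam i g) := by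
  intro U t a b
  rw [lift_conjFam, lift_conjFam, lift_conjFam, mul_comp]
  group

/-- Main result. -/
theorem exists_conj_of_infStab [Smooth H.hom] [GeometricallyIrreducible H.hom] [LocallyOfFiniteType G.hom]
    [IsMonHom i] [Mono i] {T : Over S} (g : T ⟶ G) (hg : ∀ k, InfStab i k g)
    (T' : Over S) (t : T' ⟶ T) (h : T' ⟶ H) : ∃ h' : T' ⟶ H, (t ≫ g) * (h ≫ i) * (t ≫ g)⁻¹ = h' ≫ i := by
  suffices hsuff : ∃ a : T ⊗ H ⟶ H, a ≫ i = conjFam i g by
    obtain ⟨a, ha⟩ := hsuff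
    refine ⟨lift t h ≫ a, ?_⟩
    rw [Category.assoc, ha, lift_conjFam]
  let γ : T ⊗ H ⟶ G := conjFam i g
  have hγ : IsMul γ := isMul_conjFam i g
  let f : (T ⊗ H).left ⟶ T.left := (fst T H).left
  have hf : Smooth f := by
    change Smooth (pullback.fst _ _)
    infer_instance
  let j₀ : pullback γ i ⟶ T ⊗ H := pullback.fst γ i
  let j := j₀.left
  have hj : Mono j := inferInstance
  have hilfp : LocallyOfFinitePresentation i.left := by
    have : LocallyOfFinitePresentation (i.left ≫ G.hom) := by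
      rw [Over.w i]
      infer_instance
    exact Ega43.FPOfComp.locallyOfFinitePresentation_of_comp _ G.hom
  have hjlfp : LocallyOfFinitePresentation j := by
    have h1 : IsPullback j₀.left (pullback.snd γ i).left γ.left i.left :=
      isPullback_left (IsPullback.of_hasPullback γ i)
    exact MorphismProperty.of_isPullback (P := @LocallyOfFinitePresentation) h1.flip hilfp
  let e₀ : T ⟶ pullback γ i := pullback.lift (lift (𝟙 T) (1 : T ⟶ H)) (1 : T ⟶ H) (by
    rw [hγ.one, one_comp])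
  have he₀ : (e₀ ≫ j₀) ≫ fst T H = 𝟙 T := by
    rw [pullback.lift_fst, lift_fst]
  have he₀j : e₀ ≫ j₀ = lift (𝟙 T) (1 : T ⟶ H) := pullback.lift_fst _ _ _
  have hs : (e₀.left ≫ j) ≫ f = 𝟙 T.left := by
    change ((e₀ ≫ j₀) ≫ fst T H).left = 𝟙 T.left
    rw [he₀]
    rfl
  have hgrp : ∀ (T' : Scheme.{u}) (g : T' ⟶ T.left) (W : Scheme.{u}) (w : W ⟶ pullback f g),
      Flat w → LocallyOfFinitePresentation w → (∀ t : T', ∃ z, (w ≫ pullback.snd f g) z = t) →
      ∀ (c : W ⟶ (pullback γ i).left), c ≫ j = w ≫ pullback.fst f g → Cond f j g := by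
    intro T' g W w hw1 hw2 hw3 c hc
    let T'' : Over S := Over.mk (g ≫ T.hom)
    let g' : T'' ⟶ T := Over.homMk g
    change Cond f j g'.left
    rw [cond_iff]
    have hpb : IsPullback (g' ▷ H).left (fst T'' H).left f g :=
      isPullback_left (isPullback_whiskerRight g' H)
    let w1 : W ⟶ (T'' ⊗ H).left := w ≫ hpb.isoPullback.inv
    let W' : Over S := Over.mk (w1 ≫ (T'' ⊗ H).hom)
    let w' : W' ⟶ T'' ⊗ H := Over.homMk w1
    have h1 : Flat w'.left := inferInstanceAs (Flat (w ≫ hpb.isoPullback.inv))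
    have h2 : LocallyOfFinitePresentation w'.left :=
      inferInstanceAs (LocallyOfFinitePresentation (w ≫ hpb.isoPullback.inv))
    have hw1g : w1 ≫ (g' ▷ H).left = c ≫ j := by
      rw [Category.assoc, hpb.isoPullback_inv_fst, hc]
    let c' : W' ⟶ pullback γ i := Over.homMk c (by
      rw [← Over.w (pullback.fst γ i)]
      change c ≫ j ≫ (T ⊗ H).hom = w1 ≫ (T'' ⊗ H).hom
      rw [← Category.assoc, ← hw1g, Category.assoc]
      congr 1
      exact Over.w (g' ▷ H))
    have hc' : c' ≫ j₀ = w' ≫ (g' ▷ H) := by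
      apply Over.OverMorphism.ext
      exact hw1g.symm
    refine exists_lift_of_flat i ((g' ▷ H) ≫ γ) ?_ w' ?_ (c' ≫ pullback.snd γ i) ?_
    · intro U t a b
      simp only [← Category.assoc, lift_whiskerRight]
      exact hγ _ _ _
    · intro t
      obtain ⟨x, hx⟩ := hw3 t
      refine ⟨x, ?_⟩
      rw [← hx]
      have : (w' ≫ fst T'' H).left = w ≫ pullback.snd f g := by
        change w1 ≫ (fst T'' H).left = _
        rw [Category.assoc, hpb.isoPullback_inv_snd]
      rw [this]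
    · rw [Category.assoc, ← pullback.condition, ← Category.assoc]
      change (c' ≫ j₀) ≫ γ = _
      rw [hc', Category.assoc]
  have hinf : ∀ (Q D : CommRingCat.{u}) (π : Q ⟶ D), Function.Surjective π.hom →
      IsNilpotent (RingHom.ker π.hom) → ∀ u : Spec Q ⟶ (T ⊗ H).left,
      Spec.map π ≫ u = Spec.map π ≫ u ≫ f ≫ e₀.left ≫ j → ∃ v : Spec Q ⟶ (pullback γ i).left, v ≫ j = u := by
    intro Q D π hπs hπn u hu
    obtain ⟨k, hk⟩ := hπn
    let q : Spec Q ⟶ S := u ≫ (T ⊗ H).hom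
    let u' : Over.mk q ⟶ T ⊗ H := Over.homMk u
    have hu' : (Over.homMk (Spec.map π) : Over.mk (Spec.map π ≫ q) ⟶ Over.mk q) ≫ u' =
        (Over.homMk (Spec.map π) : Over.mk (Spec.map π ≫ q) ⟶ Over.mk q) ≫ u' ≫ fst T H ≫ e₀ ≫ j₀ := by
      apply Over.OverMorphism.ext
      exact hu
    have h1 : IsInf k (u' ≫ snd T H) := by
      refine ⟨D, π, hπs, hk, left_eq_of_comp π ?_⟩
      have h0 := congrArg (fun z => z ≫ snd T H) hu'
      simp only [Category.assoc, reassoc_of% he₀j, lift_snd, comp_one] at h0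
      rw [h0, comp_one]
    obtain ⟨h', hh'⟩ := hg k Q q (u' ≫ fst T H) (u' ≫ snd T H) h1
    have h2 : h' ≫ i = u' ≫ γ := by
      rw [← hh']
      change _ = u' ≫ conjFam i g
      rw [conjFam]
      simp only [comp_mul, GrpObj.comp_inv, Category.assoc]
    refine ⟨(pullback.lift u' h' h2.symm : Over.mk q ⟶ pullback γ i).left, ?_⟩
    have h3 : (pullback.lift u' h' h2.symm : Over.mk q ⟶ pullback γ i) ≫ j₀ = u' := pullback.lift_fst _ _ _
    exact congrArg (fun z => z.left) h3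
  have hcond : ∀ t : T.left, ∃ V : T.left.Opens, t ∈ V ∧ Cond f j V.ι := by
    intro t
    obtain ⟨c, hc⟩ := Groth.Agent.Sga3C.CWMono.exists_chart f j e₀.left hs t
    refine ⟨c.V, hc, ?_⟩
    have h1 := InfChart.cond_of_inf c hs hgrp hinf
    have h2 : c.V.ι = c.hV.isoSpec.hom ≫ c.hV.fromSpec := by
      rw [← IsAffineOpen.isoSpec_inv_ι, Iso.hom_inv_id_assoc]
    rw [h2]
    exact cond_pre f j _ _ h1
  choose V hV hVc using hcond
  have hc1 : TopologicalSpace.IsOpenCover V :=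
    TopologicalSpace.IsOpenCover.mk (top_le_iff.1 fun x _ => TopologicalSpace.Opens.mem_iSup.2 ⟨x, hV x⟩)
  have h1 : Cond f j (𝟙 T.left) := by
    refine cond_loc f j _ (T.left.openCoverOfIsOpenCover V hc1) fun t => ?_
    rw [Category.comp_id]
    exact hVc t
  have h2 := (cond_iff i γ (𝟙 T)).1 h1
  obtain ⟨a, ha⟩ := h2
  refine ⟨a, ?_⟩
  rw [ha]
  simp [γ]

end Groth.Agent.RedSub.H672.InfNorm
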