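import Groth.Agent.RedSub.H672.InfBridge
import Groth.Agent.S3040

/-!
# The normaliser is an infinitesimal stabiliser, locally on the base

In a chart `c` of a smooth affine group `G` over `s : Spec R ⟶ S` there is `k` such that the points of the normaliser
of `H` are the points `g` with `InfStab i k g`.
-/

set_option autoImplicit false

open CategoryTheory Limits MonoidalCategory CartesianMonoidalCategory MonObj GrpObj AlgebraicGeometry TensorProduct

universe u

namespace Groth.Agent.RedSub.H672.Level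

open Groth.Agent.Sga3B Groth.Agent.Sga3B.PinMod Groth.Agent.Sga3B.Cell Groth.Agent.RedSub.H672.InfNorm
  Groth.Agent.RedSub.H672.OrbAlg Groth.Agent.Sga3C.CWSection Groth.Agent.Fga.GrassChart
  Groth.Agent.RedSub.H672.InfBridge Groth.Agent.RedSub.H672.KerMat

section Ker

variable {B : Type u} [CommRing B] {κ : Type} [Fintype κ] [DecidableEq κ] {d : ℕ}

/-- An inclusion between kernels of surjective matrices of the same size is an equality. -/
theorem kerM_eq_of_le {M M' : Matrix (Fin d) κ B} (hM : Function.Surjective M.mulVec)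
    (hM' : Function.Surjective M'.mulVec) (h : kerM M ≤ kerM M') : kerM M = kerM M' := by
  apply le_antisymm h
  obtain ⟨N, hN⟩ := exists_rightInv M hM
  let P : Matrix (Fin d) (Fin d) B := M' * N
  have h1 : ∀ v, M'.mulVec v = P.mulVec (M.mulVec v) := by
    intro v
    have h2 : v - N.mulVec (M.mulVec v) ∈ kerM M := by
      rw [mem_kerM, Matrix.mulVec_sub, Matrix.mulVec_mulVec, hN, Matrix.one_mulVec, sub_self]
    have h3 := h h2
    rw [mem_kerM, Matrix.mulVec_sub, sub_eq_zero, Matrix.mulVec_mulVec] at h3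
    exact h3
  have h2 : Function.Surjective P.mulVecLin := by
    intro w
    obtain ⟨v, rfl⟩ := hM' w
    exact ⟨M.mulVec v, (h1 v).symm⟩
  have h3 : Function.Injective P.mulVecLin := OrzechProperty.injective_of_surjective_endomorphism _ h2
  intro v hv
  rw [mem_kerM] at hv ⊢
  rw [h1] at hv
  apply h3
  rw [map_zero]
  exact hv

end Ker

variable {S : Scheme.{u}} {G H N : Over S} [GrpObj G] [GrpObj H] [GrpObj N] {R : Type u} [CommRing R]
  {s : Spec (CommRingCat.of R) ⟶ S} (c : Chart G s) (i : H ⟶ G) (n : N ⟶ G) {k : ℕ}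

section Data

variable (d : InfData.Data s H k) [Algebra.Smooth R c.A]

/-- Generators of the coordinate ring modulo a power of the augmentation ideal. -/
theorem exists_gen (k : ℕ) : ∃ (m : ℕ) (e : Fin m → c.A),
    ∀ f : c.A, ∃ a : Fin m → R, f - ∑ j, a j • e j ∈ RingHom.ker (1 : Pt R c.A R).hom ^ k := by
  obtain ⟨κ, _, lam, e, -, h⟩ := Groth.Agent.Sga3C.CWCoords.exists_coords (A := R) (E := c.A)
    (1 : Pt R c.A R).hom k
  let r := Fintype.equivFin κ
  refine ⟨Fintype.card κ, fun l => e (r.symm l), fun f => ⟨fun l => lam (r.symm l) f, ?_⟩⟩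
  have h1 : ∑ l, lam (r.symm l) f • e (r.symm l) = ∑ l, lam l f • e l :=
    Fintype.sum_equiv r.symm _ _ fun l => rfl
  rw [h1]
  exact h f

variable [IsMonHom i] [Mono i]

include d

/-- The infinitesimal stabiliser is closed in a chart. -/
theorem exists_ideal_infStab : ∃ 𝔞 : Ideal c.A, ∀ (B : Type u) [CommRing B] [Algebra R B] (g : Pt R c.A B),
    (∀ a ∈ 𝔞, g.hom a = 0) ↔ InfStab i k (c.pts B g) := by
  obtain ⟨m, e, he⟩ := exists_gen c k
  obtain ⟨𝔞, h𝔞⟩ := exists_ideal (yPt c i d) d.hx (yPt_surjective c i d) d.δ (yPt_δ c i d) d.ker_pow he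
  exact ⟨𝔞, fun B _ _ g => (h𝔞 B g).trans (infStab_iff_st c i d g).symm⟩

/-- The infinitesimal stabiliser is a group. -/
theorem infStab_inv {B : Type u} [CommRing B] [Algebra R B] (g : Pt R c.A B)
    (hg : InfStab i k (c.pts B g)) : InfStab i k (c.pts B g)⁻¹ := by
  obtain ⟨m, e, he⟩ := exists_gen c k
  rw [← map_inv]
  rw [infStab_iff_st c i d] at hg ⊢
  have h1 : g = 1⁻¹ * g := by group
  have h2 : g⁻¹ = g⁻¹ * 1 := by group
  rw [h1, ← kerM_mat_le_iff (yPt c i d) d.hx (yPt_surjective c i d) d.δ (yPt_δ c i d) d.ker_pow he] at hg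
  rw [h2, ← kerM_mat_le_iff (yPt c i d) d.hx (yPt_surjective c i d) d.δ (yPt_δ c i d) d.ker_pow he]
  have hsurj := mat_surjective (B := B) (yPt c i d) d.hx (yPt_surjective c i d) d.δ (yPt_δ c i d) d.ker_pow he
  rw [kerM_eq_of_le (hsurj _) (hsurj _) hg]

end Data

/-- The ideal of a closed subscheme of finite presentation of `G` in a chart. -/
theorem exists_ideal_closed {N : Over S} (n : N ⟶ G) [IsClosedImmersion n.left]
    [LocallyOfFinitePresentation n.left] : ∃ 𝔞 : Ideal c.A, 𝔞.FG ∧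
      ∀ (B : Type u) [CommRing B] [Algebra R B] (g : Pt R c.A B),
        (∀ a ∈ 𝔞, g.hom a = 0) ↔ ∃ z : tB s B ⟶ N, z ≫ n = c.pts B g := by
  have h1 : IsClosedImmersion (pullback.snd n.left c.p) := inferInstance
  have h2 : LocallyOfFinitePresentation (pullback.snd n.left c.p) := inferInstance
  obtain ⟨I, e, he⟩ := IsClosedImmersion.Spec_iff.1 h1
  refine ⟨I, ?_, fun B _ _ g => ?_⟩
  · have h3 : LocallyOfFinitePresentation (Spec.map (CommRingCat.ofHom (Ideal.Quotient.mk I))) := by
      have h4 : Spec.map (CommRingCat.ofHom (Ideal.Quotient.mk I)) = e.inv ≫ pullback.snd n.left c.p := by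
        rw [he, Iso.inv_hom_id_assoc]
      rw [h4]
      infer_instance
    rw [HasRingHomProperty.Spec_iff (P := @LocallyOfFinitePresentation)] at h3
    have h5 : Algebra.FinitePresentation c.A (c.A ⧸ I) := h3
    have h6 := Algebra.FinitePresentation.ker_fG_of_surjective (Ideal.Quotient.mkₐ c.A I)
      (Ideal.Quotient.mkₐ_surjective _ _)
    have h7 : RingHom.ker (Ideal.Quotient.mkₐ c.A I).toRingHom = I := Ideal.mk_ker
    rwa [h7] at h6
  · constructor
    · intro h
      let l : c.A ⧸ I →+* B := Ideal.Quotient.lift I (g.hom : c.A →+* B) h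
      have h3 : Spec.map (CommRingCat.ofHom l) ≫ e.inv ≫ pullback.snd n.left c.p =
          Spec.map (CommRingCat.ofHom (g.hom : c.A →+* B)) := by
        rw [he, Iso.inv_hom_id_assoc, ← Spec.map_comp, ← CommRingCat.ofHom_comp]
        rfl
      have h4 : (Spec.map (CommRingCat.ofHom l) ≫ e.inv ≫ pullback.fst n.left c.p) ≫ n.left =
          (c.pts B g).left := by
        rw [c.pts_left, ← h3]
        simp only [Category.assoc]
        rw [pullback.condition]
      refine ⟨Over.homMk (Spec.map (CommRingCat.ofHom l) ≫ e.inv ≫ pullback.fst n.left c.p) ?_, ?_⟩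
      · rw [← Over.w n, ← Category.assoc, h4, Over.w]
      · apply Over.OverMorphism.ext
        exact h4
    · rintro ⟨z, hz⟩ a ha
      have h3 : z.left ≫ n.left = Spec.map (CommRingCat.ofHom (g.hom : c.A →+* B)) ≫ c.p := by
        rw [← c.pts_left, ← hz, Over.comp_left]
      obtain ⟨φ, hφ⟩ := Spec.map_surjective (pullback.lift z.left _ h3 ≫ e.hom)
      have h4 : Spec.map φ ≫ Spec.map (CommRingCat.ofHom (Ideal.Quotient.mk I)) =
          Spec.map (CommRingCat.ofHom (g.hom : c.A →+* B)) := by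
        rw [hφ, Category.assoc, ← he, pullback.lift_snd]
      rw [← Spec.map_comp] at h4
      have h5 := Spec.map_injective h4
      have h6 : g.hom a = φ.hom (Ideal.Quotient.mk I a) :=
        congrArg (fun f => CommRingCat.Hom.hom f a) h5.symm
      rw [h6, Ideal.Quotient.eq_zero_iff_mem.2 ha, map_zero]

/-- **The normaliser is an infinitesimal stabiliser.** -/
theorem exists_level [IsMonHom i] [Mono i] [Algebra.Smooth R c.A] [LocallyOfFiniteType G.hom]
    [QuasiSeparated G.hom] [Smooth H.hom] [QuasiCompact H.hom] [QuasiSeparated H.hom]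
    (hconn : ∀ s : S, _root_.IsConnected (H.hom.base ⁻¹' {s}))
    (hN : Red.IsNormalizerOf i n) (d : ∀ k ≠ 0, Nonempty (InfData.Data s H k)) :
    ∃ k ≠ 0, ∀ (B : Type u) [CommRing B] [Algebra R B] (g : Pt R c.A B),
      (∃ z : tB s B ⟶ N, z ≫ n = c.pts B g) ↔ InfStab i k (c.pts B g) := by
  have hirr : GeometricallyIrreducible H.hom := by
    have : GrpObj (Over.mk H.hom) := inferInstanceAs (GrpObj H)
    exact Groth.Agent.Sga3C.GrpIrr.geometricallyIrreducible_of_connected_fibres H.hom hconn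
  obtain ⟨⟨N', n', hn1, hn2, hn3⟩, -⟩ := Groth.Agent.S3040.result S G H hconn i
  obtain ⟨-, -, hN3⟩ := hN
  have h1 : ∀ (B : Type u) [CommRing B] [Algebra R B] (g : Pt R c.A B),
      (∃ z : tB s B ⟶ N, z ≫ n = c.pts B g) ↔ ∀ k ≠ 0, InfStab i k (c.pts B g) := by
    intro B _ _ g
    rw [hN3]
    constructor
    · intro h k _
      exact infStab_of_conj i fun T' t h' => (h T' t h').1
    · intro h T' t h'
      have h2 : ∀ k, InfStab i k (c.pts B g) := fun k => (h (k + 1) k.succ_ne_zero).le i k.le_succ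
      have h3 : ∀ k, InfStab i k (c.pts B g)⁻¹ := fun k =>
        (infStab_inv c i (d (k + 1) k.succ_ne_zero).some g (h (k + 1) k.succ_ne_zero)).le i k.le_succ
      refine ⟨exists_conj_of_infStab i _ h2 T' t h', ?_⟩
      obtain ⟨h'', hh⟩ := exists_conj_of_infStab i _ h3 T' t h'
      refine ⟨h'', ?_⟩
      rw [← hh, GrpObj.comp_inv, _root_.inv_inv]
  have h2 : ∀ k : ℕ, ∃ 𝔞 : Ideal c.A, ∀ (B : Type u) [CommRing B] [Algebra R B] (g : Pt R c.A B),
      (∀ a ∈ 𝔞, g.hom a = 0) ↔ InfStab i (k + 1) (c.pts B g) := fun k =>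
    exists_ideal_infStab c i (d (k + 1) k.succ_ne_zero).some
  choose 𝔞 h𝔞 using h2
  obtain ⟨I, hI, hI'⟩ := exists_ideal_closed c n'
  have h3 : ∀ (B : Type u) [CommRing B] [Algebra R B] (g : Pt R c.A B),
      (∀ a ∈ I, g.hom a = 0) ↔ ∀ k, ∀ a ∈ 𝔞 k, g.hom a = 0 := by
    intro B _ _ g
    rw [hI', hn3, ← hN3, h1]
    constructor
    · intro h k
      exact (h𝔞 k B g).2 (h (k + 1) k.succ_ne_zero)
    · intro h k hk
      obtain ⟨l, rfl⟩ := Nat.exists_eq_succ_of_ne_zero hk
      exact (h𝔞 l B g).1 (h l)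
  have hle : ∀ (J J' : Ideal c.A), (∀ (B : Type u) [CommRing B] [Algebra R B] (g : Pt R c.A B),
      (∀ a ∈ J', g.hom a = 0) → ∀ a ∈ J, g.hom a = 0) → J ≤ J' := by
    intro J J' h a ha
    have h4 := h (c.A ⧸ J') (Pt.mk (Ideal.Quotient.mkₐ R J')) (fun b hb =>
      Ideal.Quotient.eq_zero_iff_mem.2 hb) a ha
    exact Ideal.Quotient.eq_zero_iff_mem.1 h4
  have hmono : Monotone 𝔞 := by
    intro k l hkl
    refine hle _ _ fun B _ _ g hg => ?_
    rw [h𝔞] at hg ⊢
    exact hg.le i (Nat.add_le_add_right hkl 1)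
  have hIle : I ≤ ⨆ k, 𝔞 k := by
    refine hle _ _ fun B _ _ g hg => ?_
    rw [h3]
    intro k a ha
    exact hg a (Ideal.mem_iSup_of_mem k ha)
  have hleI : ∀ k, 𝔞 k ≤ I := by
    intro k
    refine hle _ _ fun B _ _ g hg => ?_
    rw [h3] at hg
    exact hg k
  obtain ⟨k, hk⟩ : ∃ k, I ≤ 𝔞 k := by
    have h4 : IsCompactElement I := (Submodule.fg_iff_compact I).1 hI
    have h5 := (CompleteLattice.isCompactElement_iff_le_of_directed_sSup_le _ I).1 h4 (Set.range 𝔞)
      (Set.range_nonempty _) (directedOn_range.2 hmono.directed_le) hIle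
    obtain ⟨_, ⟨k, rfl⟩, hk⟩ := h5
    exact ⟨k, hk⟩
  refine ⟨k + 1, k.succ_ne_zero, fun B _ _ g => ?_⟩
  rw [hN3, ← hn3, ← hI', ← h𝔞]
  rw [le_antisymm hk (hleI k)]

end Groth.Agent.RedSub.H672.Level
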