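import Groth.Agent.Sga3C.QuotGlue
import Mathlib.CategoryTheory.Monoidal.Cartesian.Over
import Mathlib.CategoryTheory.Monoidal.Cartesian.Grp
import Mathlib.AlgebraicGeometry.Pullbacks

/-!
# The equivalence relation of a subgroup acting by right translations

`G` a group scheme over `S`, `n : N ⟶ G` a monomorphism of groups; on points the relation
defined by the two morphisms `(g, x) ↦ g`, `(g, x) ↦ g n(x)` from `G × N` to `G` is `a⁻¹ b ∈ N`.
-/

set_option autoImplicit false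

open CategoryTheory Limits MonoidalCategory CartesianMonoidalCategory MonObj GrpObj AlgebraicGeometry

universe u

namespace Groth.Agent.RedSub.H672.NormRel

open Groth.Agent.Sga3C.QuotRel Groth.Agent.Sga3C.QuotGlue

/-- Comparison of a relation with the kernel pair of a morphism can be made on points with values in rings. -/
theorem rel_iff_of_affine {R G X W : Scheme.{u}} {t s : R ⟶ G} (hR : IsERel t s) (j : W ⟶ G) (F : W ⟶ X)
    (h : ∀ (B : CommRingCat.{u}) (a b : Spec B ⟶ W), a ≫ F = b ≫ F ↔ Rel t s (a ≫ j) (b ≫ j))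
    {T : Scheme.{u}} (a b : T ⟶ W) : a ≫ F = b ≫ F ↔ Rel t s (a ≫ j) (b ≫ j) := by
  have hU : ∀ x : T, ∃ U : T.Opens, x ∈ U ∧ IsAffineOpen U := by
    intro x
    obtain ⟨U, hU, hxU, -⟩ := exists_isAffineOpen_mem_and_subset (U := (⊤ : T.Opens)) (x := x) trivial
    exact ⟨U, hxU, hU⟩
  have key : ∀ {U : T.Opens} (hU : IsAffineOpen U), U.ι = hU.isoSpec.hom ≫ hU.fromSpec := by
    intro U hU
    rw [← IsAffineOpen.isoSpec_inv_ι, Iso.hom_inv_id_assoc]
  constructor
  · intro hab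
    refine rel_of_forall_exists hR fun x => ?_
    obtain ⟨U, hxU, hU⟩ := hU x
    refine ⟨U, hxU, ?_⟩
    have h1 := (h _ (hU.fromSpec ≫ a) (hU.fromSpec ≫ b)).1 (by simp only [Category.assoc, hab])
    have h2 := h1.precomp hU.isoSpec.hom
    rw [key hU]
    simpa only [Category.assoc] using h2
  · intro hab
    refine Scheme.hom_ext_of_forall _ _ fun x => ?_
    obtain ⟨U, hxU, hU⟩ := hU x
    refine ⟨U, hxU, ?_⟩
    have h1 := (h _ (hU.fromSpec ≫ a) (hU.fromSpec ≫ b)).2 (by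
      simpa only [Category.assoc] using hab.precomp hU.fromSpec)
    rw [key hU]
    simp only [Category.assoc] at h1 ⊢
    rw [h1]

variable {S : Scheme.{u}} {G N : Over S} [GrpObj G] [GrpObj N] (n : N ⟶ G)

/-- The first projection. -/
noncomputable abbrev tN (_ : N ⟶ G) : (G ⊗ N).left ⟶ G.left := (fst G N).left

/-- The action. -/
noncomputable abbrev sN : (G ⊗ N).left ⟶ G.left := ((G ◁ n) ≫ μ[G]).left

omit [GrpObj N] in
theorem comp_act {X : Over S} (h : X ⟶ G ⊗ N) :
    h ≫ (G ◁ n) ≫ μ[G] = (h ≫ fst G N) * (h ≫ snd G N ≫ n) := by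
  rw [Hom.mul_def, ← Category.assoc]
  congr 1
  apply CartesianMonoidalCategory.hom_ext
  · simp
  · simp

omit [GrpObj N] in
theorem rel_over_iff {X : Over S} (a b : X ⟶ G) :
    Rel (tN n) (sN n) a.left b.left ↔ ∃ z : X ⟶ N, z ≫ n = a⁻¹ * b := by
  constructor
  · rintro ⟨h, h1, h2⟩
    let h' : X ⟶ G ⊗ N := Over.homMk h (by
      rw [← Over.w (fst G N), ← Category.assoc]
      change (h ≫ tN n) ≫ G.hom = X.hom
      rw [h1, Over.w])
    have h3 : h' ≫ fst G N = a := by
      apply Over.OverMorphism.ext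
      exact h1
    have h4 : h' ≫ (G ◁ n) ≫ μ[G] = b := by
      apply Over.OverMorphism.ext
      exact h2
    refine ⟨h' ≫ snd G N, ?_⟩
    rw [← h4, comp_act, h3, Category.assoc, inv_mul_cancel_left]
  · rintro ⟨z, hz⟩
    refine ⟨(lift a z).left, ?_, ?_⟩
    · rw [← Over.comp_left, lift_fst]
    · rw [← Over.comp_left, comp_act, lift_fst, lift_snd_assoc, hz, mul_inv_cancel_left]

omit [GrpObj N] in
theorem act_hom : sN n ≫ G.hom = tN n ≫ G.hom := by
  rw [Over.w, Over.w]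

omit [GrpObj N] in
theorem rel_hom {T : Scheme.{u}} {a b : T ⟶ G.left} (h : Rel (tN n) (sN n) a b) : a ≫ G.hom = b ≫ G.hom := by
  obtain ⟨r, rfl, rfl⟩ := h
  rw [Category.assoc, Category.assoc, act_hom]

omit [GrpObj N] in
theorem rel_iff {T : Scheme.{u}} (a b : T ⟶ G.left) (h : a ≫ G.hom = b ≫ G.hom) :
    Rel (tN n) (sN n) a b ↔ ∃ z : Over.mk (a ≫ G.hom) ⟶ N,
      z ≫ n = (Over.homMk a : Over.mk (a ≫ G.hom) ⟶ G)⁻¹ *
        (Over.homMk b h.symm : Over.mk (a ≫ G.hom) ⟶ G) :=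
  rel_over_iff n (Over.homMk a : Over.mk (a ≫ G.hom) ⟶ G) (Over.homMk b h.symm)

/-- The relation is an equivalence relation. -/
theorem isERel [IsMonHom n] [Mono n] : IsERel (tN n) (sN n) where
  mono {T} x y h1 h2 := by
    have h3 : x ≫ (G ⊗ N).hom = y ≫ (G ⊗ N).hom := by
      rw [← Over.w (fst G N), ← Category.assoc, ← Category.assoc]
      change (x ≫ tN n) ≫ G.hom = (y ≫ tN n) ≫ G.hom
      rw [h1]
    let x' : Over.mk (x ≫ (G ⊗ N).hom) ⟶ G ⊗ N := Over.homMk x
    let y' : Over.mk (x ≫ (G ⊗ N).hom) ⟶ G ⊗ N := Over.homMk y h3.symm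
    have h4 : x' ≫ fst G N = y' ≫ fst G N := by
      apply Over.OverMorphism.ext
      exact h1
    have h5 : x' ≫ (G ◁ n) ≫ μ[G] = y' ≫ (G ◁ n) ≫ μ[G] := by
      apply Over.OverMorphism.ext
      exact h2
    rw [comp_act, comp_act, h4] at h5
    have h6 : x' ≫ snd G N = y' ≫ snd G N := by
      rw [← cancel_mono n, Category.assoc, Category.assoc]
      exact mul_left_cancel h5
    have h7 : x' = y' := CartesianMonoidalCategory.hom_ext _ _ h4 h6
    exact congrArg (fun z => z.left) h7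
  refl a := by
    rw [rel_iff n a a rfl]
    refine ⟨1, ?_⟩
    rw [one_comp, inv_mul_cancel]
  symm {T a b} h := by
    have h0 := rel_hom n h
    rw [rel_iff n a b h0] at h
    obtain ⟨z, hz⟩ := h
    have h1 := (rel_over_iff n (Over.homMk b h0.symm : Over.mk (a ≫ G.hom) ⟶ G)
      (Over.homMk a : Over.mk (a ≫ G.hom) ⟶ G)).2 ⟨z⁻¹, by
        rw [inv_comp, hz]
        group⟩
    exact h1
  trans {T a b c} h h' := by
    have h0 := rel_hom n h
    have h0' := rel_hom n h'
    rw [rel_iff n a b h0] at h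
    obtain ⟨z, hz⟩ := h
    obtain ⟨z', hz'⟩ := (rel_over_iff n (Over.homMk b h0.symm : Over.mk (a ≫ G.hom) ⟶ G)
      (Over.homMk c (h0.trans h0').symm : Over.mk (a ≫ G.hom) ⟶ G)).1 h'
    have h1 := (rel_over_iff n (Over.homMk a : Over.mk (a ≫ G.hom) ⟶ G)
      (Over.homMk c (h0.trans h0').symm : Over.mk (a ≫ G.hom) ⟶ G)).2 ⟨z * z', by
        rw [mul_comp, hz, hz']
        group⟩
    exact h1

omit [GrpObj N] in
/-- Preimages of opens of the base are saturated. -/
theorem sat (V : S.Opens) : Sat (tN n) (sN n) (G.hom ⁻¹ᵁ V) := by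
  intro r
  change G.hom (tN n r) ∈ V ↔ G.hom (sN n r) ∈ V
  rw [← Scheme.Hom.comp_apply, ← Scheme.Hom.comp_apply, act_hom]

end Groth.Agent.RedSub.H672.NormRel
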