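import Groth.Agent.Sga3B.CellBase
import Groth.Agent.Sga3C.CWSection

/-!
# Conjugating a point of an affine group functor

`y : Pt R A E` a point of the affine group functor `Pt R A` with values in an `R`-algebra `E`.
For `g : Pt R A B` we consider the conjugate `cj y g = g y g⁻¹` with values in `B ⊗ E`.

* `St y g`: the conjugate of `y` by `g` is obtained from `y` by an endomorphism of `B ⊗ E`;
* `rho y g : B ⊗ A →ₐ[B] B ⊗ E`, surjective if `y.hom` is.
-/

set_option autoImplicit false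

universe u

open TensorProduct

namespace Groth.Agent.RedSub.H672.OrbAlg

open Groth.Agent.Sga3B.Cell Groth.Agent.Sga3C.CWSection

section Sub

variable {R A Q : Type u} [CommRing R] [CommRing A] [Algebra R A] [PtGrp R A] [CommRing Q] [Algebra R Q]

/-- The point `x` has its values in the subalgebra `P`. -/
def InSub (P : Subalgebra R Q) (x : Pt R A Q) : Prop := ∀ a, x.hom a ∈ P

omit [PtGrp R A] in
theorem InSub.exists_map {P : Subalgebra R Q} {x : Pt R A Q} (hx : InSub P x) :
    ∃ x' : Pt R A P, Pt.map P.val x' = x :=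
  ⟨Pt.mk (x.hom.codRestrict P hx), rfl⟩

omit [PtGrp R A] in
theorem inSub_map (P : Subalgebra R Q) (x' : Pt R A P) : InSub P (Pt.map P.val x') := fun a => (x'.hom a).2

theorem InSub.mul {P : Subalgebra R Q} {x z : Pt R A Q} (hx : InSub P x) (hz : InSub P z) : InSub P (x * z) := by
  obtain ⟨x', rfl⟩ := hx.exists_map
  obtain ⟨z', rfl⟩ := hz.exists_map
  rw [← Pt.map_mul]
  exact inSub_map P _

theorem InSub.inv {P : Subalgebra R Q} {x : Pt R A Q} (hx : InSub P x) : InSub P x⁻¹ := by
  obtain ⟨x', rfl⟩ := hx.exists_map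
  rw [← Pt.map_inv]
  exact inSub_map P _

end Sub

variable {R A E : Type u} [CommRing R] [CommRing A] [Algebra R A] [PtGrp R A] [CommRing E] [Algebra R E]
  (y : Pt R A E)
variable {B C : Type u} [CommRing B] [Algebra R B] [CommRing C] [Algebra R C]

/-- The point `y` with values in `B ⊗ E`. -/
noncomputable def yB (B : Type u) [CommRing B] [Algebra R B] : Pt R A (B ⊗[R] E) :=
  Pt.map Algebra.TensorProduct.includeRight y

/-- The point `g` with values in `B ⊗ E`. -/
noncomputable def inL (E : Type u) [CommRing E] [Algebra R E] (g : Pt R A B) : Pt R A (B ⊗[R] E) :=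
  Pt.map Algebra.TensorProduct.includeLeft g

/-- The conjugate of `y` by `g`. -/
noncomputable def cj (g : Pt R A B) : Pt R A (B ⊗[R] E) := inL E g * yB y B * (inL E g)⁻¹

/-- The conjugate of `y` by `g` comes from `y` by an endomorphism of `B ⊗ E`. -/
def St (g : Pt R A B) : Prop :=
  ∃ τ : B ⊗[R] E →ₐ[B] B ⊗[R] E, cj y g = Pt.map (τ.restrictScalars R) (yB y B)

theorem inL_mul (a b : Pt R A B) : inL E (a * b) = inL E a * inL E b := Pt.map_mul _ _ _

theorem inL_inv (a : Pt R A B) : inL E a⁻¹ = (inL E a)⁻¹ := Pt.map_inv _ _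

theorem inL_one : inL E (1 : Pt R A B) = 1 := Pt.map_one _

theorem cj_one : cj y (1 : Pt R A B) = yB y B := by
  rw [cj, inL_one]
  group

theorem cj_mul (a b : Pt R A B) : cj y (a * b) = inL E a * cj y b * (inL E a)⁻¹ := by
  simp only [cj, inL_mul]
  group

omit [PtGrp R A] in
theorem map_inL (τ : B ⊗[R] E →ₐ[B] B ⊗[R] E) (g : Pt R A B) :
    Pt.map (τ.restrictScalars R) (inL E g) = inL E g := by
  ext a
  exact τ.commutes (g.hom a)

theorem map_cj (τ : B ⊗[R] E →ₐ[B] B ⊗[R] E) (g : Pt R A B) :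
    Pt.map (τ.restrictScalars R) (cj y g) =
      inL E g * Pt.map (τ.restrictScalars R) (yB y B) * (inL E g)⁻¹ := by
  rw [cj, Pt.map_mul, Pt.map_mul, Pt.map_inv, map_inL]

theorem rel_iff (a b : Pt R A B) (τ : B ⊗[R] E →ₐ[B] B ⊗[R] E) :
    cj y b = Pt.map (τ.restrictScalars R) (cj y a) ↔
      cj y (a⁻¹ * b) = Pt.map (τ.restrictScalars R) (yB y B) := by
  rw [map_cj, cj_mul, inL_inv]
  constructor
  · intro h
    rw [h]
    group
  · intro h
    rw [← h]
    group

theorem st_inv_mul_iff (a b : Pt R A B) :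
    St y (a⁻¹ * b) ↔ ∃ τ : B ⊗[R] E →ₐ[B] B ⊗[R] E, cj y b = Pt.map (τ.restrictScalars R) (cj y a) :=
  exists_congr fun τ => (rel_iff y a b τ).symm

/-- Functoriality. -/
theorem cj_nat (φ : B →ₐ[R] C) (g : Pt R A B) :
    Pt.map (Algebra.TensorProduct.map φ (AlgHom.id R E)) (cj y g) = cj y (Pt.map φ g) := by
  have h1 : Pt.map (Algebra.TensorProduct.map φ (AlgHom.id R E)) (inL E g) = inL E (Pt.map φ g) := by
    ext a
    change Algebra.TensorProduct.map φ (AlgHom.id R E) (g.hom a ⊗ₜ 1) = φ (g.hom a) ⊗ₜ 1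
    rw [Algebra.TensorProduct.map_tmul, map_one]
  have h2 : Pt.map (Algebra.TensorProduct.map φ (AlgHom.id R E)) (yB y B) = yB y C := by
    ext a
    change Algebra.TensorProduct.map φ (AlgHom.id R E) (1 ⊗ₜ y.hom a) = 1 ⊗ₜ y.hom a
    rw [Algebra.TensorProduct.map_tmul, map_one]
    rfl
  rw [cj, Pt.map_mul, Pt.map_mul, Pt.map_inv, h1, h2, cj]

/-- The homomorphism `B ⊗ A → B ⊗ E` given by the conjugate of `y`. -/
noncomputable def rho (g : Pt R A B) : B ⊗[R] A →ₐ[B] B ⊗[R] E :=
  Algebra.TensorProduct.lift (Algebra.ofId B (B ⊗[R] E)) (cj y g).hom (fun _ _ => Commute.all _ _)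

theorem rho_tmul (g : Pt R A B) (b : B) (a : A) : rho y g (b ⊗ₜ a) = b • (cj y g).hom a := by
  rw [rho, Algebra.TensorProduct.lift_tmul, Algebra.smul_def]
  rfl

theorem rho_surjective (hy : Function.Surjective y.hom) (g : Pt R A B) : Function.Surjective (rho y g) := by
  let P : Subalgebra B (B ⊗[R] E) := (rho y g).range
  let P' : Subalgebra R (B ⊗[R] E) := P.restrictScalars R
  have h1 : InSub P' (cj y g) := fun a => ⟨1 ⊗ₜ a, by
    change rho y g (1 ⊗ₜ a) = _
    rw [rho_tmul, one_smul]⟩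
  have h2 : InSub P' (inL E g) := fun a => P.algebraMap_mem (g.hom a)
  have h3 : yB y B = (inL E g)⁻¹ * cj y g * inL E g := by
    rw [cj]
    group
  have h4 : InSub P' (yB y B) := by
    rw [h3]
    exact (h2.inv.mul h1).mul h2
  intro z
  have h5 : z ∈ P := by
    induction z with
    | zero => exact P.zero_mem
    | add a b ha hb => exact P.add_mem ha hb
    | tmul b x =>
      obtain ⟨a, rfl⟩ := hy x
      have h6 : b ⊗ₜ[R] y.hom a = algebraMap B (B ⊗[R] E) b * (1 ⊗ₜ y.hom a) := by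
        rw [Algebra.TensorProduct.algebraMap_apply, Algebra.TensorProduct.tmul_mul_tmul, mul_one, one_mul]
        rfl
      rw [h6]
      exact P.mul_mem (P.algebraMap_mem b) (h4 a)
  exact h5

section Nilp

variable (δ : E →ₐ[R] R) (hδ : Pt.map δ y = 1)

include hδ in
theorem bcSection_cj (g : Pt R A B) (a : A) :
    bcSection δ B ((cj y g).hom a) = algebraMap R B ((1 : Pt R A R).hom a) := by
  have h1 : Pt.map ((bcSection δ B).restrictScalars R) (inL E g) = g := by
    ext a
    change bcSection δ B (g.hom a ⊗ₜ 1) = g.hom a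
    rw [bcSection_tmul, map_one, map_one, mul_one]
  have h2 : Pt.map ((bcSection δ B).restrictScalars R) (yB y B) = 1 := by
    rw [← Pt.map_one (Algebra.ofId R B), ← hδ]
    ext a
    change bcSection δ B (1 ⊗ₜ y.hom a) = algebraMap R B (δ (y.hom a))
    rw [bcSection_tmul, one_mul]
  have h3 : Pt.map ((bcSection δ B).restrictScalars R) (cj y g) = Pt.map (Algebra.ofId R B) 1 := by
    rw [cj, Pt.map_mul, Pt.map_mul, Pt.map_inv, h1, h2, Pt.map_one]
    group
  exact congrArg (fun x : Pt R A B => x.hom a) h3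

include hδ in
theorem cj_eq_zero {k : ℕ} (hk : RingHom.ker δ ^ k = ⊥) (g : Pt R A B) (a : A)
    (ha : a ∈ RingHom.ker (1 : Pt R A R).hom ^ k) : (cj y g).hom a = 0 := by
  have h1 : (RingHom.ker (1 : Pt R A R).hom).map (cj y g).hom ≤ RingHom.ker (bcSection δ B) := by
    rw [Ideal.map_le_iff_le_comap]
    intro x hx
    rw [Ideal.mem_comap, RingHom.mem_ker, bcSection_cj y δ hδ]
    rw [RingHom.mem_ker] at hx
    rw [hx, map_zero]
  have h2 : (RingHom.ker (1 : Pt R A R).hom ^ k).map (cj y g).hom ≤ ⊥ := by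
    rw [Ideal.map_pow]
    refine (Ideal.pow_right_mono h1 k).trans ?_
    rw [ker_bcSection, ← Ideal.map_pow, hk, Ideal.map_bot]
  exact h2 (Ideal.mem_map_of_mem _ ha)

end Nilp

end Groth.Agent.RedSub.H672.OrbAlg
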