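import Groth.Agent.RedSub.H672.Level
import Groth.Agent.RedSub.H672.NormRel
import Groth.Agent.Fga.Plucker489
import Groth.Agent.Sga3B.ChartEx

/-!
# The orbit map to projective space, locally on the base

`G` smooth and affine over `S`, `H → G` a monomorphism, `H` smooth with connected fibres, `N` the normaliser of `H`.
Locally on `S` there is a morphism from `G` to a projective space whose kernel pair is the relation `a⁻¹ b ∈ N`.
-/

set_option autoImplicit false

open CategoryTheory Limits MonoidalCategory CartesianMonoidalCategory MonObj GrpObj AlgebraicGeometry TensorProduct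

universe u

namespace Groth.Agent.RedSub.H672.OrbMap

open Groth.Agent.Sga3B Groth.Agent.Sga3B.PinMod Groth.Agent.Sga3B.Cell Groth.Agent.RedSub.H672.InfNorm
  Groth.Agent.RedSub.H672.OrbAlg Groth.Agent.Sga3C.CWSection Groth.Agent.Fga.GrassChart
  Groth.Agent.RedSub.H672.InfBridge Groth.Agent.RedSub.H672.KerMat Groth.Agent.RedSub.H672.Level
  Groth.Agent.RedSub.H672.NormRel Groth.Agent.Sga3C.QuotRel Groth.Agent.Fga.Grass Groth.Agent.Fga.RingFunRep

variable {S : Scheme.{u}} {G H N : Over S} [GrpObj G] [GrpObj H] [GrpObj N] {R : Type u} [CommRing R]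
  {s : Spec (CommRingCat.of R) ⟶ S} (c : Chart G s) (i : H ⟶ G) (n : N ⟶ G) {k : ℕ}

/-- The orbit map on a chart. -/
theorem exists_orbMap [IsMonHom i] [Mono i] [Algebra.Smooth R c.A] (d : InfData.Data s H k) :
    ∃ (m : ℕ) (f : Spec (CommRingCat.of c.A) ⟶ CohB1.ProjSpace m (ULift.{u} ℤ)),
      ∀ (B : Type u) [CommRing B] [Algebra R B] (g g' : Pt R c.A B),
        Spec.map (CommRingCat.ofHom (g.hom : c.A →+* B)) ≫ f =
          Spec.map (CommRingCat.ofHom (g'.hom : c.A →+* B)) ≫ f ↔ InfStab i k (c.pts B (g⁻¹ * g')) := by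
  obtain ⟨m, e, he⟩ := exists_gen c k
  have hsurj : ∀ {B : Type u} [CommRing B] [Algebra R B] (g : Pt R c.A B),
      Function.Surjective (mat (yPt c i d) e d.lam d.x g).mulVec := fun g =>
    mat_surjective (yPt c i d) d.hx (yPt_surjective c i d) d.δ (yPt_δ c i d) d.ker_pow he g
  obtain ⟨Gr, r, -, -⟩ := exists_grass.{u} (Fin m ⊕ Fin d.m) d.m
  obtain ⟨M, p, hp⟩ := Fga.Plucker489.exists_plucker r
  let u : Pt R c.A c.A := Pt.mk (AlgHom.id R c.A)
  let f₀ : Spec (CommRingCat.of c.A) ⟶ Gr :=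
    (r.e (CommRingCat.of c.A)).symm (grPt (B := CommRingCat.of c.A) (mat (yPt c i d) e d.lam d.x u) (hsurj u))
  have h1 : ∀ {B : Type u} [CommRing B] [Algebra R B] (g : Pt R c.A B),
      r.e (CommRingCat.of B) (Spec.map (CommRingCat.ofHom (g.hom : c.A →+* B)) ≫ f₀) =
        grPt (B := CommRingCat.of B) (mat (yPt c i d) e d.lam d.x g) (hsurj g) := by
    intro B _ _ g
    rw [r.nat, Equiv.apply_symm_apply, map_grPt]
    apply (grPt_eq_iff _ _ _ _).2
    congr 1
    exact (mat_map (yPt c i d) g.hom u).symm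
  refine ⟨M, f₀ ≫ p, fun B _ _ g g' => ?_⟩
  rw [infStab_iff_st c i d, ← Category.assoc, ← Category.assoc, cancel_mono,
    ← (r.e (CommRingCat.of B)).injective.eq_iff, h1, h1, grPt_eq_iff,
    ← kerM_mat_le_iff (yPt c i d) d.hx (yPt_surjective c i d) d.δ (yPt_δ c i d) d.ker_pow he]
  exact ⟨fun h => h.le, fun h => kerM_eq_of_le (hsurj g) (hsurj g') h⟩

/-- **The local orbit map.** -/
theorem exists_local [IsMonHom i] [Mono i] [Smooth G.hom] [IsAffineHom G.hom] [Smooth H.hom] [QuasiCompact H.hom]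
    [QuasiSeparated H.hom] (hconn : ∀ s : S, _root_.IsConnected (H.hom.base ⁻¹' {s}))
    (hN : Red.IsNormalizerOf i n) (x : S) :
    ∃ V : S.Opens, IsAffineOpen V ∧ x ∈ V ∧ ∃ (m : ℕ) (F : (G.hom ⁻¹ᵁ V).toScheme ⟶ CohB1.ProjSpaceOver m V),
      F ≫ CohB1.ProjSpaceOver.toBase m V = G.hom ∣_ V ∧
      ∀ {T : Scheme.{u}} (a b : T ⟶ (G.hom ⁻¹ᵁ V).toScheme),
        a ≫ F = b ≫ F ↔ Rel (tN n) (sN n) (a ≫ (G.hom ⁻¹ᵁ V).ι) (b ≫ (G.hom ⁻¹ᵁ V).ι) := by
  obtain ⟨V, hV, hxV, hd⟩ := InfData.exists_infData H x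
  have hn1 : IsMonHom n := hN.1
  have hn2 : Mono n := hN.2.1
  refine ⟨V, hV, hxV, ?_⟩
  obtain ⟨c⟩ := exists_chart G hV.fromSpec
  have hp : IsOpenImmersion c.p := MorphismProperty.of_isPullback c.isPullback.flip inferInstance
  have hsm : Algebra.Smooth Γ(S, V) c.A := by
    have h1 : Smooth (Spec.map (CommRingCat.ofHom (algebraMap Γ(S, V) c.A))) :=
      MorphismProperty.of_isPullback c.isPullback inferInstance
    rw [HasRingHomProperty.Spec_iff (P := @Smooth)] at h1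
    exact RingHom.smooth_algebraMap.1 h1
  obtain ⟨k, hk, hlev⟩ := exists_level c i n hconn hN hd
  obtain ⟨m, f, hf⟩ := exists_orbMap c i (hd k hk).some
  let W : G.left.Opens := G.hom ⁻¹ᵁ V
  have hr : Set.range W.ι ⊆ Set.range c.p := by
    rintro _ ⟨w, rfl⟩
    have h1 : G.hom (W.ι w) ∈ Set.range hV.fromSpec := by
      rw [hV.range_fromSpec]
      exact w.2
    obtain ⟨v, hv⟩ := h1
    obtain ⟨z, hz, -⟩ := Scheme.exists_preimage_of_isPullback c.isPullback (W.ι w) v hv.symm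
    exact ⟨z, hz⟩
  let e : W.toScheme ⟶ Spec (CommRingCat.of c.A) := IsOpenImmersion.lift c.p W.ι hr
  have he : e ≫ c.p = W.ι := IsOpenImmersion.lift_fac _ _ _
  let F : W.toScheme ⟶ CohB1.ProjSpaceOver m V := pullback.lift (e ≫ f) (G.hom ∣_ V)
    (specULiftZIsTerminal.hom_ext _ _)
  have hF1 : F ≫ CohB1.ProjSpaceOver.toBase m V = G.hom ∣_ V := pullback.lift_snd _ _ _
  have hF2 : F ≫ pullback.fst _ _ = e ≫ f := pullback.lift_fst _ _ _
  refine ⟨m, F, hF1, fun {T} a b => ?_⟩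
  refine rel_iff_of_affine (isERel n) W.ι F (fun B a b => ?_) a b
  have hFab : a ≫ F = b ≫ F ↔ a ≫ e ≫ f = b ≫ e ≫ f ∧ a ≫ (G.hom ∣_ V) = b ≫ (G.hom ∣_ V) := by
    constructor
    · intro h
      refine ⟨?_, ?_⟩
      · have h1 := congrArg (fun z => z ≫ pullback.fst (CohB1.ProjSpace.toSpec m (ULift.{u} ℤ))
          (specULiftZIsTerminal.from V.toScheme)) h
        change (a ≫ F) ≫ pullback.fst _ _ = (b ≫ F) ≫ pullback.fst _ _ at h1
        erw [Category.assoc, Category.assoc, hF2] at h1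
        exact h1
      · have h1 := congrArg (fun z => z ≫ CohB1.ProjSpaceOver.toBase m V) h
        change (a ≫ F) ≫ CohB1.ProjSpaceOver.toBase m V = (b ≫ F) ≫ CohB1.ProjSpaceOver.toBase m V at h1
        rw [Category.assoc, Category.assoc, hF1] at h1
        exact h1
    · rintro ⟨h1, h2⟩
      apply pullback.hom_ext
      · erw [Category.assoc, Category.assoc, hF2]
        exact h1
      · have h3 : (a ≫ F) ≫ CohB1.ProjSpaceOver.toBase m V = (b ≫ F) ≫ CohB1.ProjSpaceOver.toBase m V := by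
          rw [Category.assoc, Category.assoc, hF1]
          exact h2
        exact h3
  have hVab : a ≫ (G.hom ∣_ V) = b ≫ (G.hom ∣_ V) ↔ (a ≫ W.ι) ≫ G.hom = (b ≫ W.ι) ≫ G.hom := by
    rw [← cancel_mono V.ι, Category.assoc, Category.assoc, Category.assoc, Category.assoc, morphismRestrict_ι]
  have key : (a ≫ W.ι) ≫ G.hom = (b ≫ W.ι) ≫ G.hom → (a ≫ e ≫ f = b ≫ e ≫ f ↔
      Rel (tN n) (sN n) (a ≫ W.ι) (b ≫ W.ι)) := by
    intro h
    obtain ⟨α, hα⟩ := Spec.map_surjective (a ≫ e)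
    obtain ⟨β, hβ⟩ := Spec.map_surjective (b ≫ e)
    have hαW : Spec.map α ≫ c.p = a ≫ W.ι := by rw [hα, Category.assoc, he]
    have hβW : Spec.map β ≫ c.p = b ≫ W.ι := by rw [hβ, Category.assoc, he]
    have hαβ : α.hom.comp (algebraMap Γ(S, V) c.A) = β.hom.comp (algebraMap Γ(S, V) c.A) := by
      rw [← hαW, ← hβW, Category.assoc, Category.assoc, c.isPullback.w, ← Category.assoc, ← Category.assoc,
        cancel_mono, ← Spec.map_comp, ← Spec.map_comp] at h
      exact congrArg CommRingCat.Hom.hom (Spec.map_injective h)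
    let _ : Algebra Γ(S, V) B := (α.hom.comp (algebraMap Γ(S, V) c.A)).toAlgebra
    let g : Pt Γ(S, V) c.A B := Pt.mk { α.hom with commutes' := fun r => rfl }
    let g' : Pt Γ(S, V) c.A B := Pt.mk { β.hom with
      commutes' := fun r => (congrArg (fun f : Γ(S, V) →+* B => f r) hαβ).symm }
    have hg : (c.pts B g).left = a ≫ W.ι := by
      rw [c.pts_left, ← hαW]
      rfl
    have hg' : (c.pts B g').left = b ≫ W.ι := by
      rw [c.pts_left, ← hβW]
      rfl
    have h1 := hf B g g'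
    have h2 := hlev B (g⁻¹ * g')
    rw [map_mul, map_inv, ← rel_over_iff n, hg, hg'] at h2
    rw [map_mul, map_inv] at h1
    rw [h2, ← h1, ← Category.assoc, ← Category.assoc, ← hα, ← hβ]
    rfl
  rw [hFab, hVab]
  exact ⟨fun h => (key h.2).1 h.1, fun h => ⟨(key (rel_hom n h)).2 h, rel_hom n h⟩⟩

end Groth.Agent.RedSub.H672.OrbMap
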