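import Groth.Agent.RedSub.H672.NormQuot

/-!
# Quotient of a reductive group by the normaliser of a subgroup of type (R)
-/

set_option autoImplicit false

open CategoryTheory Limits MonoidalCategory CartesianMonoidalCategory MonObj GrpObj AlgebraicGeometry

universe u

namespace Groth.Agent.RedSub.H672.TypeRQuot

variable {S : Scheme.{u}} {G H N N' : Over S} [GrpObj G] [GrpObj H] [GrpObj N] [GrpObj N']

omit [GrpObj N] [GrpObj N'] in
/-- Two monomorphisms with the same points. -/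
theorem exists_iso_of_points (n : N ⟶ G) (n' : N' ⟶ G) [Mono n] [Mono n']
    (h : ∀ (X : Over S) (g : X ⟶ G), (∃ z : X ⟶ N, z ≫ n = g) ↔ ∃ z : X ⟶ N', z ≫ n' = g) :
    ∃ e : N ≅ N', e.hom ≫ n' = n := by
  obtain ⟨a, ha⟩ := (h N n).1 ⟨𝟙 N, Category.id_comp _⟩
  obtain ⟨b, hb⟩ := (h N' n').2 ⟨𝟙 N', Category.id_comp _⟩
  refine ⟨⟨a, b, ?_, ?_⟩, ha⟩
  · rw [← cancel_mono n, Category.assoc, hb, ha, Category.id_comp]
  · rw [← cancel_mono n', Category.assoc, ha, hb, Category.id_comp]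

/-- All the representations of the normaliser are smooth if one of them is. -/
theorem smooth_of_isNormalizerOf (i : H ⟶ G) (n : N ⟶ G) (n' : N' ⟶ G) (hN : Red.IsNormalizerOf i n)
    (hN' : Red.IsNormalizerOf i n') [Smooth N'.hom] : Smooth N.hom := by
  have h1 := hN.2.1
  have h2 := hN'.2.1
  obtain ⟨e, -⟩ := exists_iso_of_points n n' fun X g => (hN.2.2 X g).trans (hN'.2.2 X g).symm
  rw [← Over.w e.hom]
  infer_instance

/-- **Quotient by the normaliser of a subgroup of type (R)**, assuming that the normaliser is smooth. -/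
theorem exists_quotient (hG : Red.IsReductive G) (i : H ⟶ G) (hH : RedSub.IsTypeR i) (n : N ⟶ G)
    (hN : Red.IsNormalizerOf i n) [Smooth N.hom] :
    ∃ (Q : Over S) (q : G ⟶ Q), RedSub.IsQuotient n q ∧ Smooth Q.hom ∧ QuasiCompact Q.hom ∧ QuasiSeparated Q.hom ∧
      RedSub.IsLocallyQuasiProjective Q := by
  obtain ⟨hG1, hG2, -⟩ := hG
  obtain ⟨⟨hi1, hi2⟩, hH1, hH2, hH3, -⟩ := hH
  have hm : Mono i := Over.mono_of_mono_left i
  have hs : IsSeparated H.hom := by
    rw [← Over.w i]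
    infer_instance
  obtain ⟨Q, q, h1, h2, h3, h4, h5⟩ := NormQuot.exists_quotient i n hH3 hN
  exact ⟨Q, q, h1, h2, h3, inferInstance, h5⟩

end Groth.Agent.RedSub.H672.TypeRQuot
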