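import Groth.Agent.Agf.H581.ProperQuot
import Mathlib.AlgebraicGeometry.ZariskisMainTheorem
import Groth.Prelude.Def_RedSub
import Groth.Agent.Ega3B.ProjProper

/-!
# Properness of quotients from an Iwasawa decomposition

`q : G ⟶ Q` surjective, invariant under right translations by `p : P ⟶ G`. If for every valuation ring `O` with
algebraically closed fraction field `K` and every `c : Spec O ⟶ S` we have `G(K) = G(O) P(K)`, then `Q` satisfies the
existence part of the valuative criterion over `S`.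
-/

set_option autoImplicit false

open CategoryTheory Limits MonoidalCategory CartesianMonoidalCategory MonObj GrpObj AlgebraicGeometry

universe u

namespace Groth.Agent.RedSub.H672.ValQuot

open Groth.Agent.Agf.H581.ProperQuot Groth.Agent.Agf.H581.ValDom

variable {S : Scheme.{u}} {G P Q : Over S} [GrpObj G]

/-- An Iwasawa decomposition. -/
def Iwasawa (p : P ⟶ G) : Prop :=
  ∀ (O K : Type u) [CommRing O] [IsDomain O] [ValuationRing O] [Field K] [Algebra O K] [IsFractionRing O K]
    [IsAlgClosed K] (c : Spec (CommRingCat.of O) ⟶ S)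
    (g : Over.mk (Spec.map (CommRingCat.ofHom (algebraMap O K)) ≫ c) ⟶ G),
    ∃ (g₀ : Over.mk c ⟶ G) (y : Over.mk (Spec.map (CommRingCat.ofHom (algebraMap O K)) ≫ c) ⟶ P),
      g = ((Over.homMk (Spec.map (CommRingCat.ofHom (algebraMap O K))) :
        Over.mk (Spec.map (CommRingCat.ofHom (algebraMap O K)) ≫ c) ⟶ Over.mk c) ≫ g₀) * (y ≫ p)

/-- The existence part of the valuative criterion. -/
theorem existence (p : P ⟶ G) (hI : Iwasawa p) (q : G ⟶ Q) (hs : Surjective q.left)
    (hq : ∀ {T : Over S} (g : T ⟶ G) (h : T ⟶ P), (g * (h ≫ p)) ≫ q = g ≫ q) :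
    ValuativeCriterion.Existence Q.hom := by
  intro D
  obtain ⟨L₁, _, j₁, g₁, hg₁⟩ := exists_lift_point q.left D.i₁
  let L := AlgebraicClosure L₁
  let j : D.K →+* L := (algebraMap L₁ L).comp j₁
  let g : Spec (CommRingCat.of L) ⟶ G.left := Spec.map (CommRingCat.ofHom (algebraMap L₁ L)) ≫ g₁
  have hg : g ≫ q.left = Spec.map (CommRingCat.ofHom j) ≫ D.i₁ := by
    rw [Category.assoc, hg₁, ← Category.assoc, ← Spec.map_comp]
    rfl
  -- the valuation rings
  let V : ValuationSubring D.K := (ValuationRing.valuation D.R D.K).valuationSubring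
  have hV : ∀ x : D.K, x ∈ V ↔ ∃ r : D.R, algebraMap D.R D.K r = x := fun x =>
    ValuationRing.mem_integer_iff D.R D.K x
  obtain ⟨R₁, hR₁, hR₁l⟩ := IsLocalRing.exists_factor_valuationRing (j.comp V.subtype)
  have hcomap : R₁.comap j = V := by
    refine comap_eq_of_isLocal V j R₁ (fun x hx => hR₁ ⟨x, hx⟩) ?_
    intro x hx hxi
    by_cases hx0 : x = 0
    · rw [hx0, inv_zero]
      exact V.zero_mem
    have hu : IsUnit (((j.comp V.subtype).codRestrict R₁.toSubring hR₁) ⟨x, hx⟩) := by
      refine IsUnit.of_mul_eq_one (⟨(j x)⁻¹, hxi⟩ : R₁.toSubring) ?_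
      apply Subtype.ext
      change j x * (j x)⁻¹ = 1
      exact mul_inv_cancel₀ (by rwa [map_ne_zero])
    have hu' := hR₁l.map_nonunit _ hu
    obtain ⟨y, hy⟩ := hu'.exists_right_inv
    have h2 : x * (y : D.K) = 1 := congrArg Subtype.val hy
    rw [inv_eq_of_mul_eq_one_right h2]
    exact y.2
  let θ : D.R →+* R₁ := ((j.comp (algebraMap D.R D.K)).codRestrict R₁.toSubring fun r => by
    have h1 : algebraMap D.R D.K r ∈ V := (hV _).2 ⟨r, rfl⟩
    rw [← hcomap] at h1
    exact h1)
  have hθ : (algebraMap R₁ L).comp θ = j.comp (algebraMap D.R D.K) := rfl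
  let c : Spec (CommRingCat.of R₁) ⟶ S := Spec.map (CommRingCat.ofHom θ) ≫ D.i₂
  have hgc : g ≫ G.hom = Spec.map (CommRingCat.ofHom (algebraMap R₁ L)) ≫ c := by
    rw [← Over.w q, ← Category.assoc, hg, Category.assoc, D.commSq.w, ← Category.assoc, ← Category.assoc,
      ← Spec.map_comp, ← Spec.map_comp]
    rfl
  obtain ⟨g₀, y, hy⟩ := hI R₁ L c (Over.homMk g hgc)
  have hkey : g ≫ q.left = Spec.map (CommRingCat.ofHom (algebraMap R₁ L)) ≫ (g₀ ≫ q).left := by
    have h1 := congrArg (fun z => (z ≫ q).left) hy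
    simp only [hq] at h1
    exact h1
  -- base change to the valuation ring
  let x' : Spec (CommRingCat.of D.K) ⟶ pullback Q.hom D.i₂ :=
    pullback.lift D.i₁ (Spec.map (CommRingCat.ofHom (algebraMap D.R D.K))) D.commSq.w
  let y' : Spec (CommRingCat.of R₁) ⟶ pullback Q.hom D.i₂ :=
    pullback.lift (g₀ ≫ q).left (Spec.map (CommRingCat.ofHom θ)) (Over.w (g₀ ≫ q))
  have hxy : Spec.map (CommRingCat.ofHom j) ≫ x' = Spec.map (CommRingCat.ofHom (algebraMap R₁ L)) ≫ y' := by
    apply pullback.hom_ext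
    · rw [Category.assoc, Category.assoc, pullback.lift_fst, pullback.lift_fst, ← hg, hkey]
    · rw [Category.assoc, Category.assoc, pullback.lift_snd, pullback.lift_snd, ← Spec.map_comp, ← Spec.map_comp]
      rfl
  obtain ⟨z, hz⟩ := exists_desc_val (algebraMap D.R D.K) (IsFractionRing.injective D.R D.K)
    (algebraMap R₁ L) j (by
      rintro l ⟨r, hr⟩
      have h1 : l ∈ R₁.comap j := by
        rw [ValuationSubring.mem_comap, ← hr]
        exact r.2
      rw [hcomap] at h1
      exact (hV l).1 h1) x' y' hxy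
  have hz2 : z ≫ pullback.snd Q.hom D.i₂ = 𝟙 _ := by
    obtain ⟨φ, hφ⟩ := Spec.map_surjective (z ≫ pullback.snd Q.hom D.i₂)
    have h1 : Spec.map (CommRingCat.ofHom (algebraMap D.R D.K)) ≫ Spec.map φ =
        Spec.map (CommRingCat.ofHom (algebraMap D.R D.K)) := by
      rw [hφ, ← Category.assoc, hz, pullback.lift_snd]
    rw [← Spec.map_comp] at h1
    have h2 := Spec.map_injective h1
    rw [← hφ, ← Spec.map_id]
    congr 1
    ext r
    exact IsFractionRing.injective D.R D.K (congrArg (fun f => CommRingCat.Hom.hom f r) h2)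
  refine ⟨⟨⟨z ≫ pullback.fst Q.hom D.i₂, ?_, ?_⟩⟩⟩
  · rw [← Category.assoc, hz, pullback.lift_fst]
  · rw [Category.assoc, pullback.condition, ← Category.assoc, hz2, Category.id_comp]

/-- Properness of a quotient. -/
theorem isProper (p : P ⟶ G) (hI : Iwasawa p) (q : G ⟶ Q) (hs : Surjective q.left)
    (hq : ∀ {T : Over S} (g : T ⟶ G) (h : T ⟶ P), (g * (h ≫ p)) ≫ q = g ≫ q)
    [LocallyOfFiniteType Q.hom] [QuasiCompact Q.hom] [IsSeparated Q.hom] : IsProper Q.hom where
  toUniversallyClosed := UniversallyClosed.of_valuativeCriterion _ (existence p hI q hs hq)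

/-- Quasi-projective and proper implies projective. -/
theorem isLocallyProjective (Q : Over S) [IsProper Q.hom] (h : RedSub.IsLocallyQuasiProjective Q) :
    RedSub.IsLocallyProjective Q := by
  intro s
  obtain ⟨V, hsV, n, e, he, hev⟩ := h s
  refine ⟨V, hsV, n, e, ?_, hev⟩
  have hp : IsProper (CohB1.ProjSpaceOver.toBase n V) := Ega3B.ProjProper.isProper_toBase n _
  have h1 : IsProper (Red.bc V.ι Q).hom := by
    change IsProper (pullback.snd _ _)
    infer_instance
  have h2 : IsProper (e ≫ CohB1.ProjSpaceOver.toBase n V) := by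
    rw [hev]
    exact h1
  have h3 : IsProper e := IsProper.of_comp e (CohB1.ProjSpaceOver.toBase n V)
  exact (IsClosedImmersion.iff_isProper_and_mono e).2 ⟨h3, inferInstance⟩

end Groth.Agent.RedSub.H672.ValQuot
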